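import Cfsg.Agent.LThreeCo1.Ev
import Cfsg.Agent.SmallSimple.SelfCentPrime
import Cfsg.Agent.CoOneType.QBase
import Cfsg.Agent.H447.CTabLam_m3
import Cfsg.Agent.H692.RealOver
import Cfsg.Agent.S0173
import Cfsg.Agent.H692.CubeMcL
import Cfsg.Agent.H41.TI.Gen
import Cfsg.Agent.H34.TI.Defs
import Cfsg.Agent.H904.McLCent
import Cfsg.Agent.H41.McLTwo.Ords_m3
import Cfsg.Agent.CoOneType.CoAp
import Cfsg.Agent.CoOneType.CoW
import Cfsg.Agent.FastGrp
import Cfsg.Agent.Prune
set_option linter.all false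

-- part: H41/McLTwo/Data_mg
section
set_option linter.all false
open scoped Cfsg.Agent.FastGrp

-- part: H41/McLTwo/Data
section
/-!
# Outer elements of `McL : 2` in `Co0` (helper41, task 5084; matrices generated)

`e 0, …, e 3` : involutions interchanging the vectors `U` and `W` of the triangle; `e 0 * e i` has order 14, 30, 9 for
`i = 1, 2, 3`; `e 4` has order 22 and interchanges `U` and `W`.
-/

set_option autoImplicit false
set_option maxRecDepth 20000

namespace Cfsg.Agent.H41.McLTwo.Data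

open Cfsg Cfsg.Agent.LThreeCo1.Ev Cfsg.Agent.SporadicStructure.Co0Matrix Cfsg.Agent.CoOneType.CoEval

/-- the code of the matrix of `t` -/
def n0 : ℕ := 0x94a1294a509425094a1294a529421093a1273a50741d073a1274a5294210842508421284a12841508421084a5294a12739d07425093a0e93a527421093a0e749d09425093a1274a4e7421093a0e93a507425094a0e73a4e9421094a0e74a50941d073a0e93a4e94210842508421284a12842508421082a5293a0e93a50941d093a0e949d274210842508421282a12842508421084a5293a12949d07425073a0e949ce94210842508421284a1284250842108495293a12949d0941d074a0e73a527421093a0e749d0741d094a12939d294210841508421284a12842508421084a5294a0e939d0741d074a1294a4e7421093a1273a509425074a12939ce7421094a0e939d09425073a12739d29421094a1294a50741d093a12739ce7421094a12739d0941d094a0e749ce9421094a0e74a507425074a0e749d274210842508420a84a12842508421084a52842508421284a0a842508421084a52842508421284a12842508421084a4a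

theorem ok0 : Ok (dec n0) (tr (dec n0)) := Cfsg.Agent.Co0Q.ok_of (by decide +kernel)

/-- the code of the matrix of `t14` -/
def n1 : ℕ := 0x9c6318c6319c6318c6337c66f8c66f8bdf39bdef8bdf37bdf18cdb17be318bdf37bdef6cdef9cdf18be317be318ce737bdef8bdef7be718be317bdb18cdef9bdef8bdef9bded8be317ce318bdef7cdef8be6f9bdf18ce317bdb18bdef7bdef8bdf37cdf18be319cdb18bdef7bdf36bdef7be718ce317ce319c5b18c62d7c62d6c62f7c5ef8c5ef8be6f7bdef8ce6f7bdf18bdb17ce318bdef7cdef8cdf37be6d8be317be318cdef7be6f6be737bdf18be317be318be6f9cdef6bdef7bdf18be319be318be6f7be6f8bdef7cded8ce317be318bdf37bdf38be6f7bded8be319be319c6316c6317c5b18b5af7c5ef8c5ef7c6318c6317c6318c62f5c5f38c5f38cdef7cdf38bdef7cdf18bdb17be319b6318c6317b6318c62f7b5ef6c5ef7c6318c6317c6318c62f9c5eb8c5f38bdef7be6f8bdef9be718bdb19be318bdef9be738cdef7bdf18be317bdb19c62d8b5b17c6318c62f7c5ef8b5ef7c6318c6317c6318c62f9c5f38c5eb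

theorem ok1 : Ok (dec n1) (tr (dec n1)) := Cfsg.Agent.Co0Q.ok_of (by decide +kernel)

/-- the code of the matrix of `t30` -/
def n2 : ℕ := 0xa4a5284a52842128425084a109424e9321094210739d093a12941d284a10941907421074a5073a0e9425284a109421094190939d074a0e9424e84a10849d2839d284212a425083a1074252942107321093a5074a12741d284a109420c74210949d094a0e941d283a10942109421074a5094a0e741ce84990839d284a4e84212851d083a109425283a4e83a52842128425083a90941d283a4e849d284292841d084a1074252942109421094a5073a12931ce83a10849cea3a528420e841d084a1094252839d284a52a420e8425084a10741d29421094210749d074a127425263a10849ce849ce842128425484a10941d284a5283a4e84212841d0a4a10741d2942107421073a4c94a129424e83a1083a52839ce8520e8425084a109425284a4e84a4e8420e8425083a10752529421074210949d0939927424e84a1084a52849d28420e841d083a14941d2942109420c93a5093a0e7425283a10742109421094a5094a129425284a0c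

theorem ok2 : Ok (dec n2) (tr (dec n2)) := Cfsg.Agent.Co0Q.ok_of (by decide +kernel)

/-- the code of the matrix of `t9` -/
def n3 : ℕ := 0x9c6319ce719c5f18c6318c6318c5ef8bdef8c5af8be2f7be739bdef7ce318bdef6c62f8ce2f9cdef7bdef7ce318bdef8b6338ce2f7bdf37be6f7be319c5b17bdf17c5f16c5b18c5b18c5ef9c62d7bdf17b5ed8c6316c6318c5ef9b6317bded7c5f18c6318c62d8b5ef8bdf38c5af8be2f7cdef7be737be319c6317bdf17c5f18b62d8b6316c5ef8be738b62f8be2f7bdef7bdef9ce317c6317bdf17c6718c6318c6318c5738bdef8b62f8be2f9bdef9cdf37be318be6f6c62f8be337bdf37bdf37be318be6f8c6336be2f7cdef9bdef7be318cdef6c62f8be2f7bdef9be6f9be318cdf38c62f6be2f9bdf37bdef7be318cdef8b62f8be337ce6f7bdef7be318bdef8c62f6be337bdef7ce6f7ce318bdf36c6338be2f7be6f7cdef7be318bdef8c5b38be339bdef7bdef9be318bdef8c62f6ce2f7be6f7bdf39be318ce6f8c5af8ce2f7bdef7cdef7be317c6317bdf17c5718c6318c6318c6737c6317bdf17c6718c6318c6318c66b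

theorem ok3 : Ok (dec n3) (tr (dec n3)) := Cfsg.Agent.Co0Q.ok_of (by decide +kernel)

/-- the code of the matrix of `z` -/
def n4 : ℕ := 0xa42528425294a1084a5084a128424e93a1094a108424e94192741d093a10841ce8425274a9084a5083a0e84252841ce841ce94a1084a5484a12841d284252841ce74a1083a5084a0ea425293a1074a10841ce742129325094a10851d28424e94a10839d083a12842529399093a10841d29420e7425094a1094a1093a10841ce94212941cc74a1093a1094a0c842527420e941d074a1094a1073a108325274212741d094a1093a1073a1084252932129425073a1084252841d294a14849d083a0e841d28424e8424e93a10849d084a8e8425294a1093a108424e7420e9425093990841d28525293a1083a5084a0e841d28424e8425274a10839d084a12851d2842528424e73a10a4a5083a12841d294a0c74a10841d29420e941d093a1094a10749908424e9420e7425074a108424ea41d293a1083a5083a128425294a1094a10641d2742127425073a10841d2841d273a10849d0a4a128425274a1094a1084252942129425094a0c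

theorem ok4 : Ok (dec n4) (tr (dec n4)) := Cfsg.Agent.Co0Q.ok_of (by decide +kernel)

/-- the matrices -/
def M : ℕ → List (List ℤ)
  | 0 => dec n0
  | 1 => dec n1
  | 2 => dec n2
  | 3 => dec n3
  | _ => dec n4

theorem okM : ∀ i, Ok (M i) (tr (M i))
  | 0 => ok0
  | 1 => ok1
  | 2 => ok2
  | 3 => ok3
  | _ + 4 => ok4

/-- the elements -/
noncomputable def e (i : ℕ) : Co0 := mk (okM i)

theorem rep (i : ℕ) : Rep (e i) (M i) := rep_mk (okM i)

end Cfsg.Agent.H41.McLTwo.Data
end

-- part: H41/McLTwo/RegTwo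
section
/-!
# The `p`-regular classes of a group with a normal subgroup of index 2 (helper41, task 5084)

`N` normal of index 2 in the finite group `W`, `p` an odd prime:
`2 * #(p-regular classes of W) = 4 * #(invariant p-regular classes of N) + #(noninvariant p-regular classes of N)`.
Proof: counting of commuting pairs.
-/

set_option autoImplicit false

namespace Cfsg.Agent.H41.McLTwo

open Cfsg

universe u

section Pairs

variable {G : Type u} [Group G]

theorem out_iff {D : G → Prop} (hD : ∀ x y, IsConj x y → (D x ↔ D y)) (x : G) :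
    D (Quotient.out (ConjClasses.mk x)) ↔ D x := by
  refine hD _ _ ?_
  have h : ConjClasses.mk (Quotient.out (ConjClasses.mk x)) = ConjClasses.mk x := Quotient.out_eq (ConjClasses.mk x)
  exact ConjClasses.mk_eq_mk_iff_isConj.1 h

/-- The number of classes with a property by commuting pairs. -/
theorem card_pairs [Finite G] {D : G → Prop} (hD : ∀ x y, IsConj x y → (D x ↔ D y)) :
    Nat.card {q : G × G // D q.1 ∧ Commute q.1 q.2} =
      Nat.card {c : ConjClasses G // D (Quotient.out c)} * Nat.card G := by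
  classical
  haveI := Fintype.ofFinite G
  haveI : Fintype (ConjClasses G) := Fintype.ofFinite _
  have h1 : Nat.card {q : G × G // D q.1 ∧ Commute q.1 q.2} =
      ∑ x : G, if D x then Nat.card (Subgroup.centralizer ({x} : Set G)) else 0 := by
    rw [Nat.card_eq_fintype_card, Fintype.card_subtype, Finset.card_filter, Fintype.sum_prod_type]
    refine Finset.sum_congr rfl fun x _ => ?_
    by_cases hx : D x
    · rw [if_pos hx, Nat.card_eq_fintype_card, Fintype.card_subtype, Finset.card_filter]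
      refine Finset.sum_congr rfl fun y _ => ?_
      have : (D x ∧ Commute x y) ↔ y ∈ Subgroup.centralizer ({x} : Set G) := by
        rw [Subgroup.mem_centralizer_singleton_iff]
        exact ⟨fun h => h.2.symm.eq, fun h => ⟨hx, (show Commute y x from h).symm⟩⟩
      simp only [this]
    · rw [if_neg hx]
      simp [hx]
  rw [h1, ← Finset.sum_fiberwise (s := Finset.univ) (g := fun x : G => ConjClasses.mk x)]
  have h2 : ∀ c : ConjClasses G, (∑ x ∈ Finset.univ.filter (fun x : G => ConjClasses.mk x = c),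
      if D x then Nat.card (Subgroup.centralizer ({x} : Set G)) else 0) =
      if D (Quotient.out c) then Nat.card G else 0 := by
    intro c
    obtain ⟨x, rfl⟩ := ConjClasses.mk_surjective c
    have hc : ∀ y ∈ Finset.univ.filter (fun y : G => ConjClasses.mk y = ConjClasses.mk x),
        (if D y then Nat.card (Subgroup.centralizer ({y} : Set G)) else 0) =
        (if D x then Nat.card (Subgroup.centralizer ({x} : Set G)) else 0) := by
      intro y hy
      have hyx : IsConj y x := ConjClasses.mk_eq_mk_iff_isConj.1 (Finset.mem_filter.1 hy).2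
      have e1 := SmallSimple.SelfCentPrime.card_carrier_mul_card_centralizer y
      have e2 := SmallSimple.SelfCentPrime.card_carrier_mul_card_centralizer x
      rw [ConjClasses.mk_eq_mk_iff_isConj.2 hyx] at e1
      have hpos : 0 < Nat.card (ConjClasses.mk x).carrier := by
        haveI : Nonempty (ConjClasses.mk x).carrier := ⟨⟨x, ConjClasses.mem_carrier_mk⟩⟩
        exact Nat.card_pos
      have e3 : Nat.card (Subgroup.centralizer ({y} : Set G)) = Nat.card (Subgroup.centralizer ({x} : Set G)) :=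
        Nat.eq_of_mul_eq_mul_left hpos (e1.trans e2.symm)
      rw [e3]
      simp only [hD y x hyx]
    rw [Finset.sum_congr rfl hc, Finset.sum_const, smul_eq_mul]
    have hcard : (Finset.univ.filter (fun y : G => ConjClasses.mk y = ConjClasses.mk x)).card =
        Nat.card (ConjClasses.mk x).carrier := by
      rw [← Fintype.card_subtype, ← Nat.card_eq_fintype_card]
      exact Nat.card_congr (Equiv.subtypeEquivRight fun y => by rw [ConjClasses.mem_carrier_iff_mk_eq])
    rw [hcard]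
    by_cases hx : D x
    · rw [if_pos hx, if_pos ((out_iff hD x).2 hx)]
      exact SmallSimple.SelfCentPrime.card_carrier_mul_card_centralizer x
    · rw [if_neg hx, if_neg (fun h => hx ((out_iff hD x).1 h)), mul_zero]
  have h3 : Nat.card {c : ConjClasses G // D (Quotient.out c)} =
      (Finset.univ.filter (fun c : ConjClasses G => D (Quotient.out c))).card := by
    rw [Nat.card_eq_fintype_card, Fintype.card_subtype]
  rw [Finset.sum_congr rfl fun c _ => h2 c, ← Finset.sum_filter, Finset.sum_const, smul_eq_mul, h3]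

end Pairs

/-- exponents of the `p`-part and the `p'`-part -/
theorem exists_exponents {A m : ℕ} (h : Nat.Coprime A m) : ∃ e f : ℕ, m ∣ e ∧ A ∣ f ∧ e ≡ 1 [MOD A] ∧ f ≡ 1 [MOD m] := by
  obtain ⟨e, he1, he2⟩ := Nat.chineseRemainder h 1 0
  obtain ⟨f, hf1, hf2⟩ := Nat.chineseRemainder h 0 1
  exact ⟨e, f, (Nat.modEq_zero_iff_dvd).1 he2, (Nat.modEq_zero_iff_dvd).1 hf1, he1, hf2⟩

section Two

variable {W : Type u} [Group W] {N : Subgroup W} [N.Normal]

/-- invariant classes -/
def InvC (N : Subgroup W) [N.Normal] (c : ConjClasses N) : Prop :=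
  ∀ g : W, ConjClasses.map ((MulAut.conjNormal g : MulAut N) : N ≃* N).toMonoidHom c = c

theorem conj_eq (g : W) (y : N) : (((MulAut.conjNormal g : MulAut N) y : N) : W) = g * y * g⁻¹ :=
  MulAut.conjNormal_apply g y

theorem invC_mk {y : N} : InvC N (ConjClasses.mk y) ↔ ∀ g : W, IsConj ((MulAut.conjNormal g : MulAut N) y) y := by
  refine forall_congr' fun g => ?_
  show ConjClasses.mk ((MulAut.conjNormal g : MulAut N) y) = ConjClasses.mk y ↔ _
  rw [ConjClasses.mk_eq_mk_iff_isConj]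

/-- the class of `y` is invariant iff an outer element commutes with `y` -/
theorem invC_iff (hN : N.index = 2) {y : N} :
    InvC N (ConjClasses.mk y) ↔ ∃ g : W, g ∉ N ∧ Commute g (y : W) := by
  rw [invC_mk]
  constructor
  · intro h
    have hne : N ≠ ⊤ := by
      rintro rfl
      rw [Subgroup.index_top] at hN
      omega
    obtain ⟨g, hg⟩ := SetLike.exists_not_mem_of_ne_top N hne rfl
    obtain ⟨s, hs⟩ := isConj_iff.1 (h g)
    refine ⟨s * g, fun hm => hg ((Subgroup.mul_mem_cancel_left N s.2).1 hm), ?_⟩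
    have h1 := congrArg (Subtype.val : N → W) hs
    rw [Subgroup.coe_mul, Subgroup.coe_mul, Subgroup.coe_inv, conj_eq] at h1
    show (s : W) * g * y = y * (s * g)
    calc (s : W) * g * y = ((s : W) * (g * y * g⁻¹) * (s : W)⁻¹) * (s * g) := by group
      _ = y * (s * g) := by rw [h1]
  · rintro ⟨x, hx, hc⟩ g
    have hc' : x * y * x⁻¹ = y := by rw [hc.eq, mul_inv_cancel_right]
    by_cases hg : g ∈ N
    · refine isConj_iff.2 ⟨⟨g⁻¹, inv_mem hg⟩, Subtype.ext ?_⟩
      rw [Subgroup.coe_mul, Subgroup.coe_mul, Subgroup.coe_inv, conj_eq]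
      show g⁻¹ * (g * y * g⁻¹) * g⁻¹⁻¹ = y
      group
    · have hs : x * g⁻¹ ∈ N := by
        rw [Subgroup.mul_mem_iff_of_index_two hN]
        exact ⟨fun h => absurd h hx, fun h => absurd (inv_mem_iff.1 h) hg⟩
      refine isConj_iff.2 ⟨⟨x * g⁻¹, hs⟩, Subtype.ext ?_⟩
      rw [Subgroup.coe_mul, Subgroup.coe_mul, Subgroup.coe_inv, conj_eq]
      show (x * g⁻¹) * (g * y * g⁻¹) * (x * g⁻¹)⁻¹ = y
      calc (x * g⁻¹) * (g * y * g⁻¹) * (x * g⁻¹)⁻¹ = x * y * x⁻¹ := by group
        _ = y := hc'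

/-- the condition of a commuting pair -/
def CP (W : Type u) [Group W] (N : Subgroup W) (m : ℕ) (a b : Prop) : Type u :=
  {q : W × W // (q.1 ^ m = 1 ∧ Commute q.1 q.2) ∧ (q.1 ∈ N ↔ a) ∧ (q.2 ∈ N ↔ b)}

/-- both in `N` -/
theorem card_tt [Finite W] (m : ℕ) :
    Nat.card (CP W N m True True) = Nat.card {c : ConjClasses N // (Quotient.out c) ^ m = 1} * Nat.card N := by
  rw [← card_pairs (G := N) (D := fun x => x ^ m = 1)]
  · refine Nat.card_congr
      { toFun := fun q => ⟨(⟨q.1.1, q.2.2.1.2 trivial⟩, ⟨q.1.2, q.2.2.2.2 trivial⟩), Subtype.ext q.2.1.1, Subtype.ext q.2.1.2⟩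
        invFun := fun q => ⟨((q.1.1 : W), (q.1.2 : W)), ⟨⟨congrArg Subtype.val q.2.1, congrArg Subtype.val q.2.2.eq⟩,
          ⟨fun _ => trivial, fun _ => q.1.1.2⟩, ⟨fun _ => trivial, fun _ => q.1.2.2⟩⟩⟩
        left_inv := fun q => rfl
        right_inv := fun q => rfl }
  · intro x y h
    obtain ⟨g, rfl⟩ := isConj_iff.1 h
    rw [conj_pow, mul_inv_eq_one, mul_eq_left]

/-- the first in `N`, the second outside -/
theorem card_tf [Finite W] (hN : N.index = 2) (m : ℕ) :
    Nat.card (CP W N m True False) =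
      Nat.card {c : ConjClasses N // (Quotient.out c) ^ m = 1 ∧ InvC N c} * Nat.card N := by
  classical
  have hD : ∀ x y : N, IsConj x y → ((x ^ m = 1 ∧ InvC N (ConjClasses.mk x)) ↔ (y ^ m = 1 ∧ InvC N (ConjClasses.mk y))) := by
    intro x y h
    rw [ConjClasses.mk_eq_mk_iff_isConj.2 h]
    obtain ⟨g, rfl⟩ := isConj_iff.1 h
    rw [conj_pow, mul_inv_eq_one, mul_eq_left]
  have h1 := card_pairs (G := N) hD
  have h2 : ∀ c : ConjClasses N, ConjClasses.mk (Quotient.out c) = c := fun c => Quotient.out_eq c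
  simp only [h2] at h1
  rw [← h1]
  have hex : ∀ y : N, ∃ g : W, InvC N (ConjClasses.mk y) → g ∉ N ∧ Commute g (y : W) := by
    intro y
    by_cases h : InvC N (ConjClasses.mk y)
    · obtain ⟨g, hg⟩ := (invC_iff hN).1 h
      exact ⟨g, fun _ => hg⟩
    · exact ⟨1, fun h' => absurd h' h⟩
  choose g hg using hex
  symm
  refine Nat.card_congr (Equiv.ofBijective (fun q => ⟨((q.1.1 : W), (q.1.2 : W) * g q.1.1), ?_⟩) ⟨?_, ?_⟩)
  · have h3 := hg q.1.1 q.2.1.2
    have h4 : Commute (q.1.1 : W) (q.1.2 : W) := congrArg Subtype.val q.2.2.eq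
    refine ⟨⟨congrArg Subtype.val q.2.1.1, h4.mul_right h3.2.symm⟩, ⟨fun _ => trivial, fun _ => q.1.1.2⟩, ?_⟩
    exact ⟨fun h => h3.1 ((Subgroup.mul_mem_cancel_left N q.1.2.2).1 h), False.elim⟩
  · intro q r hqr
    have h3 := congrArg Subtype.val hqr
    have h4 : q.1.1 = r.1.1 := Subtype.ext (congrArg Prod.fst h3)
    have h5 := congrArg Prod.snd h3
    simp only [h4] at h5
    exact Subtype.ext (Prod.ext h4 (Subtype.ext (mul_right_cancel h5)))
  · rintro ⟨⟨y, x⟩, ⟨h3, h4⟩, h5, h6⟩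
    have hy : y ∈ N := h5.2 trivial
    have hx : x ∉ N := h6.1
    have hI : InvC N (ConjClasses.mk (⟨y, hy⟩ : N)) := (invC_iff hN).2 ⟨x, hx, h4.symm⟩
    have h7 := hg ⟨y, hy⟩ hI
    have h8 : x * (g ⟨y, hy⟩)⁻¹ ∈ N := by
      rw [Subgroup.mul_mem_iff_of_index_two hN]
      exact ⟨fun h => absurd h hx, fun h => absurd (inv_mem_iff.1 h) h7.1⟩
    refine ⟨⟨(⟨y, hy⟩, ⟨x * (g ⟨y, hy⟩)⁻¹, h8⟩), ⟨⟨Subtype.ext h3, hI⟩, Subtype.ext ?_⟩⟩, ?_⟩
    · exact (h4.mul_right h7.2.symm.inv_right).eq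
    · refine Subtype.ext (Prod.ext rfl ?_)
      show x * (g ⟨y, hy⟩)⁻¹ * g ⟨y, hy⟩ = x
      rw [inv_mul_cancel_right]

/-- both outside -/
theorem card_ff (hN : N.index = 2) (m : ℕ) : Nat.card (CP W N m False False) = Nat.card (CP W N m False True) := by
  refine Nat.card_congr
    { toFun := fun q => ⟨(q.1.1, q.1.1 * q.1.2), ⟨⟨q.2.1.1, (Commute.refl _).mul_right q.2.1.2⟩, q.2.2.1, ?_⟩⟩
      invFun := fun q => ⟨(q.1.1, q.1.1⁻¹ * q.1.2), ⟨⟨q.2.1.1, (Commute.refl _).inv_right.mul_right q.2.1.2⟩, q.2.2.1, ?_⟩⟩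
      left_inv := fun q => Subtype.ext (Prod.ext rfl (inv_mul_cancel_left _ _))
      right_inv := fun q => Subtype.ext (Prod.ext rfl (mul_inv_cancel_left _ _)) }
  · rw [Subgroup.mul_mem_iff_of_index_two hN, q.2.2.1, q.2.2.2]
    tauto
  · rw [Subgroup.mul_mem_iff_of_index_two hN, inv_mem_iff, q.2.2.1, q.2.2.2]
    tauto

/-- exchange -/
theorem card_ft [Finite W] (hN : N.index = 2) {A m : ℕ} (hA : Odd A) (hAm : Nat.Coprime A m) (hW : Nat.card W = A * m) :
    Nat.card (CP W N m False True) = Nat.card (CP W N m True False) := by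
  obtain ⟨e, f, he, hf, he1, hf1⟩ := exists_exponents hAm
  have hpow : ∀ x : W, x ^ (A * m) = 1 := fun x => by rw [← hW]; exact pow_card_eq_one'
  have hmod : ∀ (x : W) {a b : ℕ}, a ≡ b [MOD A * m] → x ^ a = x ^ b := by
    intro x a b h
    exact pow_eq_pow_iff_modEq.2 (h.of_dvd (orderOf_dvd_of_pow_eq_one (hpow x)))
  have hmod' : ∀ {x : W} {a b : ℕ}, x ^ m = 1 → a ≡ b [MOD m] → x ^ a = x ^ b := by
    intro x a b hx h
    exact pow_eq_pow_iff_modEq.2 (h.of_dvd (orderOf_dvd_of_pow_eq_one hx))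
  have hef : e * f ≡ 0 [MOD A * m] := (Nat.modEq_zero_iff_dvd).2 (by rw [mul_comm A m]; exact mul_dvd_mul he hf)
  have hsum : e + f ≡ 1 [MOD A * m] := by
    rw [← Nat.modEq_and_modEq_iff_modEq_mul hAm]
    constructor
    · have : e + f ≡ 1 + 0 [MOD A] := he1.add ((Nat.modEq_zero_iff_dvd).2 hf)
      simpa using this
    · have : e + f ≡ 0 + 1 [MOD m] := Nat.ModEq.add ((Nat.modEq_zero_iff_dvd).2 he) hf1
      simpa using this
  have hee : e * e ≡ e [MOD A * m] := by
    rw [← Nat.modEq_and_modEq_iff_modEq_mul hAm]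
    constructor
    · simpa using he1.mul_right e
    · exact ((Nat.modEq_zero_iff_dvd).2 (he.mul_right e)).trans ((Nat.modEq_zero_iff_dvd).2 he).symm
  have h2m : 2 ∣ m := by
    have h1 : 2 ∣ A * m := by rw [← hW, ← hN]; exact N.index_dvd_card
    exact (Nat.Coprime.dvd_of_dvd_mul_left (Nat.coprime_two_left.2 hA) h1)
  have heN : ∀ x : W, x ^ e ∈ N := by
    intro x
    obtain ⟨k, hk⟩ := h2m.trans he
    rw [hk, pow_mul]
    exact pow_mem (Subgroup.sq_mem_of_index_two hN x) k
  have key1 : ∀ x y : W, x ^ m = 1 → Commute x y → (x * y ^ e) ^ f = x := by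
    intro x y hx hc
    rw [(hc.pow_right e).mul_pow, ← pow_mul, hmod y hef, pow_zero, mul_one, hmod' hx hf1, pow_one]
  have key2 : ∀ x y : W, x ^ m = 1 → Commute x y → y ^ f * (x * y ^ e) ^ e = y := by
    intro x y hx hc
    rw [(hc.pow_right e).mul_pow, ← pow_mul, hmod y hee, hmod' hx ((Nat.modEq_zero_iff_dvd).2 he), pow_zero, one_mul,
      ← pow_add, add_comm f e, hmod y hsum, pow_one]
  have key3 : ∀ y : W, (y ^ f) ^ m = 1 := by
    intro y
    obtain ⟨k, rfl⟩ := hf
    rw [← pow_mul, show A * k * m = (A * m) * k by ring, pow_mul, hpow, one_pow]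
  have key4 : ∀ x : W, x ^ f ∈ N → x ∈ N := by
    intro x hx
    have h1 : x ^ e * x ^ f = x := by rw [← pow_add, hmod x hsum, pow_one]
    rw [← h1]
    exact mul_mem (heN x) hx
  refine Nat.card_congr
    { toFun := fun q => ⟨(q.1.2 ^ f, q.1.1 * q.1.2 ^ e), ⟨⟨key3 _, ?_⟩, ?_, ?_⟩⟩
      invFun := fun q => ⟨(q.1.2 ^ f, q.1.1 * q.1.2 ^ e), ⟨⟨key3 _, ?_⟩, ?_, ?_⟩⟩
      left_inv := fun q => Subtype.ext (Prod.ext (key1 _ _ q.2.1.1 q.2.1.2) (key2 _ _ q.2.1.1 q.2.1.2))
      right_inv := fun q => Subtype.ext (Prod.ext (key1 _ _ q.2.1.1 q.2.1.2) (key2 _ _ q.2.1.1 q.2.1.2)) }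
  · exact ((q.2.1.2.symm.pow_left f).mul_right ((Commute.refl _).pow_pow f e))
  · exact ⟨fun _ => trivial, fun _ => pow_mem (q.2.2.2.2 trivial) f⟩
  · exact ⟨fun h => q.2.2.1.1 ((Subgroup.mul_mem_cancel_right N (heN _)).1 h), False.elim⟩
  · exact ((q.2.1.2.symm.pow_left f).mul_right ((Commute.refl _).pow_pow f e))
  · exact ⟨fun h => q.2.2.2.1 (key4 _ h), False.elim⟩
  · exact ⟨fun _ => trivial, fun _ => mul_mem (q.2.2.1.2 trivial) (heN _)⟩

theorem card_split {α : Type u} [Finite α] (P Q : α → Prop) :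
    Nat.card {x // P x} = Nat.card {x // P x ∧ Q x} + Nat.card {x // P x ∧ ¬ Q x} := by
  classical
  rw [← Nat.card_sum]
  refine Nat.card_congr
    { toFun := fun x => if h : Q x.1 then Sum.inl ⟨x.1, x.2, h⟩ else Sum.inr ⟨x.1, x.2, h⟩
      invFun := fun x => Sum.elim (fun y => ⟨y.1, y.2.1⟩) (fun y => ⟨y.1, y.2.1⟩) x
      left_inv := fun x => ?_
      right_inv := fun x => ?_ }
  · by_cases h : Q x.1
    · simp [h]
    · simp [h]
  · rcases x with x | x
    · simp [x.2.2]
    · simp [x.2.2]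

/-- **The `p`-regular classes of a group with a normal subgroup of index 2**: `|W| = A m`, `A` odd and prime to `m`; the
classes of the elements `x` with `x ^ m = 1`. -/
theorem pow_two' [Finite W] (hN : N.index = 2) {A m : ℕ} (hA : Odd A) (hAm : Nat.Coprime A m) (hW : Nat.card W = A * m) :
    2 * Nat.card {c : ConjClasses W // (Quotient.out c) ^ m = 1} =
      4 * Nat.card {c : ConjClasses N // (Quotient.out c) ^ m = 1 ∧ InvC N c} +
        Nat.card {c : ConjClasses N // (Quotient.out c) ^ m = 1 ∧ ¬ InvC N c} := by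
  have h0 := card_pairs (G := W) (D := fun x => x ^ m = 1) (by
    intro x y h
    obtain ⟨g, rfl⟩ := isConj_iff.1 h
    rw [conj_pow, mul_inv_eq_one, mul_eq_left])
  have e1 := card_split (fun q : W × W => q.1 ^ m = 1 ∧ Commute q.1 q.2) (fun q => q.1 ∈ N)
  have e2 := card_split (fun q : W × W => (q.1 ^ m = 1 ∧ Commute q.1 q.2) ∧ q.1 ∈ N) (fun q => q.2 ∈ N)
  have e3 := card_split (fun q : W × W => (q.1 ^ m = 1 ∧ Commute q.1 q.2) ∧ ¬ q.1 ∈ N) (fun q => q.2 ∈ N)
  have c1 : Nat.card {q : W × W // ((q.1 ^ m = 1 ∧ Commute q.1 q.2) ∧ q.1 ∈ N) ∧ q.2 ∈ N} = Nat.card (CP W N m True True) :=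
    Nat.card_congr (Equiv.subtypeEquivRight fun q => by rw [iff_true, iff_true, and_assoc])
  have c2 : Nat.card {q : W × W // ((q.1 ^ m = 1 ∧ Commute q.1 q.2) ∧ q.1 ∈ N) ∧ ¬ q.2 ∈ N} =
      Nat.card (CP W N m True False) :=
    Nat.card_congr (Equiv.subtypeEquivRight fun q => by rw [iff_true, iff_false, and_assoc])
  have c3 : Nat.card {q : W × W // ((q.1 ^ m = 1 ∧ Commute q.1 q.2) ∧ ¬ q.1 ∈ N) ∧ q.2 ∈ N} =
      Nat.card (CP W N m False True) :=
    Nat.card_congr (Equiv.subtypeEquivRight fun q => by rw [iff_true, iff_false, and_assoc])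
  have c4 : Nat.card {q : W × W // ((q.1 ^ m = 1 ∧ Commute q.1 q.2) ∧ ¬ q.1 ∈ N) ∧ ¬ q.2 ∈ N} =
      Nat.card (CP W N m False False) :=
    Nat.card_congr (Equiv.subtypeEquivRight fun q => by rw [iff_false, iff_false, and_assoc])
  have e4 := card_split (fun c : ConjClasses N => (Quotient.out c) ^ m = 1) (fun c => InvC N c)
  have hWN : Nat.card W = 2 * Nat.card N := by rw [← hN, N.index_mul_card]
  have hpos : 0 < Nat.card N := Nat.card_pos
  have d1 := card_tt (N := N) m
  have d2 := card_tf hN m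
  have d3 := card_ft hN hA hAm hW
  have d4 := card_ff (N := N) hN m
  refine Nat.eq_of_mul_eq_mul_right hpos ?_
  rw [c1, c2, d1, d2] at e2
  rw [c3, c4, d4, d3, d2] at e3
  rw [h0, e2, e3, e4, hWN] at e1
  linarith

end Two

section Reg

variable {W : Type u} [Group W] {N : Subgroup W} [N.Normal]

theorem reg_iff {G : Type u} [Group G] {p a m : ℕ} (hp : p.Prime) (hm : ¬ p ∣ m) {x : G} (hx : x ^ (p ^ a * m) = 1) :
    ¬ p ∣ orderOf x ↔ x ^ m = 1 := by
  constructor
  · intro h
    refine orderOf_dvd_iff_pow_eq_one.1 (Nat.Coprime.dvd_of_dvd_mul_left ?_ (orderOf_dvd_of_pow_eq_one hx))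
    exact Nat.Coprime.pow_right a (((Nat.Prime.coprime_iff_not_dvd hp).2 h).symm)
  · intro h hd
    exact hm (hd.trans (orderOf_dvd_of_pow_eq_one h))

/-- **The `p`-regular classes of a group with a normal subgroup of index 2**, `p` odd. -/
theorem reg_two [Finite W] (hN : N.index = 2) {p : ℕ} (hp : p.Prime) (hp2 : p ≠ 2) :
    2 * Nat.card {c : ConjClasses W // ¬ p ∣ orderOf (Quotient.out c)} =
      4 * Nat.card {c : ConjClasses N // ¬ p ∣ orderOf (Quotient.out c) ∧ InvC N c} +
        Nat.card {c : ConjClasses N // ¬ p ∣ orderOf (Quotient.out c) ∧ ¬ InvC N c} := by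
  have hpos : Nat.card W ≠ 0 := Nat.card_pos.ne'
  have hW : Nat.card W = p ^ (Nat.card W).factorization p * (Nat.card W / p ^ (Nat.card W).factorization p) :=
    (Nat.ordProj_mul_ordCompl_eq_self _ p).symm
  have hm : ¬ p ∣ Nat.card W / p ^ (Nat.card W).factorization p := Nat.not_dvd_ordCompl hp hpos
  have hx : ∀ x : W, x ^ (p ^ (Nat.card W).factorization p * (Nat.card W / p ^ (Nat.card W).factorization p)) = 1 := by
    intro x
    rw [← hW]
    exact pow_card_eq_one'
  have hy : ∀ x : N, x ^ (p ^ (Nat.card W).factorization p * (Nat.card W / p ^ (Nat.card W).factorization p)) = 1 :=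
    fun x => Subtype.ext (by rw [Subgroup.coe_pow]; exact hx _)
  have h := pow_two' (N := N) hN (A := p ^ (Nat.card W).factorization p)
    (m := Nat.card W / p ^ (Nat.card W).factorization p) ((hp.odd_of_ne_two hp2).pow)
    (Nat.Coprime.pow_left _ ((Nat.Prime.coprime_iff_not_dvd hp).2 hm)) hW
  simp only [reg_iff hp hm (hx _), reg_iff hp hm (hy _)]
  exact h

/-- **The classes of a group with a normal subgroup of index 2**. -/
theorem all_two [Finite W] (hN : N.index = 2) :
    2 * Nat.card (ConjClasses W) =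
      4 * Nat.card {c : ConjClasses N // InvC N c} + Nat.card {c : ConjClasses N // ¬ InvC N c} := by
  have h := pow_two' (N := N) hN (A := 1) (m := Nat.card W) odd_one (Nat.coprime_one_left _) (one_mul _).symm
  have hx : ∀ x : W, x ^ Nat.card W = 1 := fun x => pow_card_eq_one'
  have hy : ∀ x : N, x ^ Nat.card W = 1 := fun x => Subtype.ext (by rw [Subgroup.coe_pow]; exact hx _)
  simp only [hx, hy, true_and] at h
  rw [← h]
  congr 1
  exact (Nat.card_congr (Equiv.subtypeUnivEquiv fun _ => trivial)).symm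

end Reg

end Cfsg.Agent.H41.McLTwo
end

private theorem dce_094fce85af42 : _root_.True := by
  try have : _root_.True := by simp only [_root_.Cfsg.Agent.H41.McLTwo.InvC.congr_simp]
  exact _root_.True.intro
end

-- part: H41/McLTwo/Pack
section
set_option linter.all false
open scoped Cfsg.Agent.FastGrp

-- part: H41/McLTwo/Chars
section
/-!
# Invariant characters from a table (helper41, task 5084)

`Θ : Table T rc m n`, `α` an automorphism which maps every `q`-regular element to a conjugate of its inverse; the rational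
characters are invariant, the complex ones of `q`-defect zero are not.
-/

set_option autoImplicit false

namespace Cfsg.Agent.H41.McLTwo

open Cfsg Cfsg.Agent.Characters.Core Cfsg.Agent.H447.CTab
open scoped ComplexConjugate

universe u

theorem cf_isConj {G : Type u} [Group G] {φ : G → ℂ} (h : IsClassFunction G φ) {a b : G} (hab : IsConj a b) :
    φ a = φ b := by
  obtain ⟨g, rfl⟩ := isConj_iff.1 hab
  exact (h a g).symm

theorem card_sum_filter {m n : ℕ} (u : Fin m → Bool) (w : Fin n → Bool) :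
    Nat.card {x : Fin m ⊕ Fin n × Bool // Sum.elim u (fun p => w p.1) x = true} =
      (Finset.univ.filter fun a => u a = true).card + 2 * (Finset.univ.filter fun b => w b = true).card := by
  rw [Nat.card_congr (Equiv.subtypeSum), Nat.card_sum]
  congr 1
  · show Nat.card {a // u a = true} = _
    rw [Nat.card_eq_fintype_card, Fintype.card_subtype]
  · show Nat.card {p : Fin n × Bool // w p.1 = true} = _
    rw [Nat.card_congr (Equiv.prodSubtypeFstEquivSubtypeProd (p := fun b => w b = true)), Nat.card_prod,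
      Nat.card_eq_fintype_card (α := Bool), Fintype.card_bool, Nat.card_eq_fintype_card, Fintype.card_subtype, mul_comm]

variable {G : Type u} [Group G] [Finite G] {k r m n : ℕ} {T : ClassTab G k} {rc : Fin k → Fin r}

/-- **The list of the irreducible characters with degrees and invariance.** -/
theorem exists_list (Θ : Table T rc m n) (α : G ≃* G) {q : ℕ} (hq : q.Prime)
    (hA : ∀ t : G, ¬ q ∣ orderOf t → IsConj (α t) t⁻¹)
    (hB : ∀ t : G, IsConj (α t) t ∨ IsConj (α t) t⁻¹) (v : Fin n → Bool)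
    (hv : ∀ b, v b = false → q ^ (Nat.card G).factorization q ∣ (Θ.P b (rc Θ.i0)).toNat / 2)
    (hc : Nat.card {C : ConjClasses G // ConjClasses.map α.toMonoidHom C = C} =
      m + 2 * (Finset.univ.filter fun b => v b = true).card) :
    ∃ e : (Fin m ⊕ Fin n × Bool) ≃ IrrCharacter G,
      (∀ a, charDegree (e (Sum.inl a) : G → ℂ) = (Θ.R a (rc Θ.i0)).toNat) ∧
      (∀ p, charDegree (e (Sum.inr p) : G → ℂ) = (Θ.P p.1 (rc Θ.i0)).toNat / 2) ∧
      ∀ x, (e x : G → ℂ) ∘ α = e x ↔ Sum.elim (fun _ => true) (fun p => v p.1) x = true := by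
  classical
  obtain ⟨χ, ψ, hχ, hψ, hne, hbij⟩ := Θ.exists_irr
  have hd : ∀ p : Fin n × Bool, charDegree ((if p.2 then ψ p.1 else cj (ψ p.1) : IrrCharacter G) : G → ℂ) =
      (Θ.P p.1 (rc Θ.i0)).toNat / 2 := by
    rintro ⟨b, s⟩
    obtain ⟨d, -, hd⟩ := isIrr_apply_one (ψ b).2
    have hd' : (cj (ψ b) : G → ℂ) 1 = d := by
      show conj ((ψ b : G → ℂ) 1) = d
      rw [hd, Complex.conj_natCast]
    have h3 := hψ b Θ.i0
    rw [Θ.hi0, hd, hd'] at h3
    have h4 : (d : ℤ) + (d : ℤ) = Θ.P b (rc Θ.i0) := by exact_mod_cast h3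
    have h5 : ((if s then ψ b else cj (ψ b) : IrrCharacter G) : G → ℂ) 1 = ((d : ℤ) : ℂ) := by
      rcases s with _ | _
      · exact hd'
      · exact hd
    rw [Table.degree_eq h5, ← h4]
    omega
  -- the rational characters
  have hR : ∀ a, (χ a : G → ℂ) ∘ α = χ a := by
    intro a
    funext t
    show (χ a : G → ℂ) (α t) = (χ a : G → ℂ) t
    rcases hB t with h | h
    · exact cf_isConj (isIrr_isClassFunction (χ a).2) h
    · rw [cf_isConj (isIrr_isClassFunction (χ a).2) h, isCharacter_apply_inv (isIrr_isCharacter (χ a).2)]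
      rw [T.apply (isIrr_isClassFunction (χ a).2) t, hχ, map_intCast]
  -- the complex characters of defect zero
  have hnot : ∀ b, v b = false → ¬ (ψ b : G → ℂ) ∘ α = ψ b := by
    intro b hb h
    refine hne b (Subtype.ext (funext fun t => ?_))
    show conj ((ψ b : G → ℂ) t) = (ψ b : G → ℂ) t
    have hdb := hd (b, true)
    have hdeg : q ^ (Nat.card G).factorization q ∣ charDegree (ψ b : G → ℂ) := by
      have h1 : charDegree (ψ b : G → ℂ) = (Θ.P b (rc Θ.i0)).toNat / 2 := hdb
      rw [h1]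
      exact hv b hb
    by_cases ht : q ∣ orderOf t
    · rw [H692.RealOver.defect_zero_vanish (ψ b).2 q hq hdeg ht, map_zero]
    · have h1 := congrFun h t
      have h2 : (ψ b : G → ℂ) (α t) = (ψ b : G → ℂ) t := h1
      rw [cf_isConj (isIrr_isClassFunction (ψ b).2) (hA t ht),
        isCharacter_apply_inv (isIrr_isCharacter (ψ b).2)] at h2
      exact h2
  have hnot' : ∀ b, v b = false → ¬ (cj (ψ b) : G → ℂ) ∘ α = cj (ψ b) := by
    intro b hb h
    refine hnot b hb (funext fun t => ?_)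
    have h1 : conj ((ψ b : G → ℂ) (α t)) = conj ((ψ b : G → ℂ) t) := congrFun h t
    have h2 := congrArg conj h1
    rw [Complex.conj_conj, Complex.conj_conj] at h2
    exact h2
  let e : (Fin m ⊕ Fin n × Bool) ≃ IrrCharacter G := Equiv.ofBijective _ hbij
  have he1 : ∀ a, e (Sum.inl a) = χ a := fun _ => rfl
  have he2 : ∀ p : Fin n × Bool, e (Sum.inr p) = if p.2 then ψ p.1 else cj (ψ p.1) := fun _ => rfl
  have hsub : ∀ x, (e x : G → ℂ) ∘ α = e x → Sum.elim (fun _ => true) (fun p => v p.1) x = true := by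
    rintro (a | ⟨b, s⟩) h
    · rfl
    · show v b = true
      by_contra hb
      rw [Bool.not_eq_true] at hb
      rw [he2] at h
      rcases s with _ | _
      · exact hnot' b hb h
      · exact hnot b hb h
  refine ⟨e, fun a => ?_, fun p => ?_, fun x => ⟨hsub x, fun hx => ?_⟩⟩
  · rw [he1]
    exact Table.degree_eq (by rw [← hχ a, Θ.hi0])
  · rw [he2]
    exact hd p
  · by_contra hcon
    have h1 : Nat.card {χ : IrrCharacter G // (χ : G → ℂ) ∘ α = (χ : G → ℂ)} =
        Nat.card {x : Fin m ⊕ Fin n × Bool // (e x : G → ℂ) ∘ α = e x} :=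
      (Nat.card_congr (Equiv.subtypeEquiv e fun x => Iff.rfl)).symm
    have h2 := card_sum_filter (fun _ : Fin m => true) v
    have h3 : (Finset.univ.filter fun a : Fin m => (fun _ : Fin m => true) a = true).card = m := by simp
    rw [h3] at h2
    have h4 := S0173.result α
    rw [hc, h1, ← h2] at h4
    rw [Nat.card_eq_fintype_card, Nat.card_eq_fintype_card, Fintype.card_subtype, Fintype.card_subtype] at h4
    have h5 : (Finset.univ.filter fun x : Fin m ⊕ Fin n × Bool => (e x : G → ℂ) ∘ α = e x) ⊂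
        (Finset.univ.filter fun x : Fin m ⊕ Fin n × Bool => Sum.elim (fun _ => true) (fun p => v p.1) x = true) := by
      rw [Finset.ssubset_iff_of_subset]
      · exact ⟨x, Finset.mem_filter.2 ⟨Finset.mem_univ _, hx⟩, fun h => hcon (Finset.mem_filter.1 h).2⟩
      · intro y hy
        exact Finset.mem_filter.2 ⟨Finset.mem_univ _, hsub y (Finset.mem_filter.1 hy).2⟩
    exact absurd (Finset.card_lt_card h5) (by rw [h4]; exact lt_irrefl _)

/-- the numbers of invariant and not invariant characters with a property of the degree -/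
theorem count_inv (Θ : Table T rc m n) (α : G ≃* G) {q : ℕ} (hq : q.Prime)
    (hA : ∀ t : G, ¬ q ∣ orderOf t → IsConj (α t) t⁻¹)
    (hB : ∀ t : G, IsConj (α t) t ∨ IsConj (α t) t⁻¹) (v : Fin n → Bool)
    (hv : ∀ b, v b = false → q ^ (Nat.card G).factorization q ∣ (Θ.P b (rc Θ.i0)).toNat / 2)
    (hc : Nat.card {C : ConjClasses G // ConjClasses.map α.toMonoidHom C = C} =
      m + 2 * (Finset.univ.filter fun b => v b = true).card)
    (D : ℕ → Prop) (u : Fin m → Bool) (w : Fin n → Bool)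
    (hu : ∀ a, D (Θ.R a (rc Θ.i0)).toNat ↔ u a = true) (hw : ∀ b, D ((Θ.P b (rc Θ.i0)).toNat / 2) ↔ w b = true) :
    Nat.card {χ : IrrCharacter G // D (charDegree (χ : G → ℂ)) ∧ (χ : G → ℂ) ∘ α = χ} =
        (Finset.univ.filter fun a => u a = true).card + 2 * (Finset.univ.filter fun b => (w b && v b) = true).card ∧
      Nat.card {χ : IrrCharacter G // D (charDegree (χ : G → ℂ)) ∧ ¬ (χ : G → ℂ) ∘ α = χ} =
        2 * (Finset.univ.filter fun b => (w b && !v b) = true).card := by
  obtain ⟨e, h1, h2, h3⟩ := exists_list Θ α hq hA hB v hv hc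
  constructor
  · rw [← card_sum_filter]
    refine (Nat.card_congr (Equiv.subtypeEquiv e fun x => ?_)).symm
    rw [h3 x]
    rcases x with a | p
    · rw [h1, hu]
      simp
    · rw [h2, hw]
      simp
  · have h4 := card_sum_filter (fun _ : Fin m => false) (fun b => w b && !v b)
    have h5 : (Finset.univ.filter fun a : Fin m => (fun _ : Fin m => false) a = true).card = 0 := by simp
    rw [h5, zero_add] at h4
    rw [← h4]
    refine (Nat.card_congr (Equiv.subtypeEquiv e fun x => ?_)).symm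
    rw [h3 x]
    rcases x with a | p
    · simp
    · rw [h2, hw]
      simp

end Cfsg.Agent.H41.McLTwo
end

-- part: H41/McLTwo/Elts
section
/-!
# Outer automorphisms of `McL` (helper41, task 5084)

* `inv_of` : for `n = 7, 9, 14, 15, 30` there is `y ∈ McL` of order `n` with `α y` conjugate to `y⁻¹` for every automorphism `α`
  which is not inner;
* `eleven` : there is `y` of order 11 with `α y` conjugate to `y`.
-/

set_option autoImplicit false
set_option maxRecDepth 20000

namespace Cfsg.Agent.H41.McLTwo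

open Cfsg Cfsg.Spor Cfsg.Agent.LThreeCo1.Ev Cfsg.Agent.SporadicStructure.Co0Matrix Cfsg.Agent.CoOneType.CoEval
open Cfsg.Agent.H997.OutMcL (W mem_McL map_W)
open Data

theorem word {w w' : List ℕ} (h : eqB M w w' = true) : (w.map e).prod = (w'.map e).prod := eq_of_eqB rep h

theorem nword {w w' : List ℕ} (h : neB' M w w' = true) : (w.map e).prod ≠ (w'.map e).prod := ne_of_neB' rep h

/-! ### The vectors -/

def lU : List ℤ := [4, 0, 0, 0, 0, 0, 0, 0, 0, 0, 0, 0, 0, 0, 0, 0, 0, 0, 0, 0, 0, 0, 0, 4]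
def lV : List ℤ := [-1, -1, -1, -1, -1, -1, -1, -1, -1, -1, -1, -1, -1, -1, -1, -1, -1, -1, -1, -1, -1, -1, -1, -5]
def lW : List ℤ := [-3, 1, 1, 1, 1, 1, 1, 1, 1, 1, 1, 1, 1, 1, 1, 1, 1, 1, 1, 1, 1, 1, 1, 1]

theorem coe_U : ((leechU : leechLattice) : GolayPt → ℤ) = vec lU := by
  show vecU = _
  decide +kernel
theorem coe_V : ((leechV : leechLattice) : GolayPt → ℤ) = vec lV := by
  show vecV = _
  decide +kernel
theorem coe_W : ((W : leechLattice) : GolayPt → ℤ) = vec lW := by
  show -vecV - vecU = _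
  decide +kernel

theorem chkU : ∀ i < 5, ap (M i) lU = lW := by (rewrite [Cfsg.Agent.CoOneType.CoAp.ap_F]; decide +kernel)
theorem chkV : ∀ i < 5, ap (M i) lV = lV := by (rewrite [Cfsg.Agent.CoOneType.CoAp.ap_F]; decide +kernel)
theorem chkW : ∀ i < 5, ap (M i) lW = lU := by (rewrite [Cfsg.Agent.CoOneType.CoAp.ap_F]; decide +kernel)

theorem eU {i : ℕ} (hi : i < 5) : (e i : Equiv.Perm leechLattice) leechU = W := by
  apply Subtype.ext
  refine ((rep i).apply (l := lU) (by decide) coe_U).trans ?_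
  rw [chkU i hi, coe_W]

theorem eV {i : ℕ} (hi : i < 5) : (e i : Equiv.Perm leechLattice) leechV = leechV := by
  apply Subtype.ext
  refine ((rep i).apply (l := lV) (by decide) coe_V).trans ?_
  rw [chkV i hi, coe_V]

theorem eW {i : ℕ} (hi : i < 5) : (e i : Equiv.Perm leechLattice) W = leechU := by
  apply Subtype.ext
  refine ((rep i).apply (l := lW) (by decide) coe_W).trans ?_
  rw [chkW i hi, coe_U]

/-! ### Relations -/

theorem sq0 : e 0 * e 0 = 1 := by
  have h := word (w := [0, 0]) (w' := []) (by (delta Cfsg.Agent.LThreeCo1.Ev.eqB; rewrite [Cfsg.Agent.CoOneType.CoW.of_eq Cfsg.Agent.LThreeCo1.Ev.foldZ_eq]; decide +kernel))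
  simpa using h
theorem sq1 : e 1 * e 1 = 1 := by
  have h := word (w := [1, 1]) (w' := []) (by (delta Cfsg.Agent.LThreeCo1.Ev.eqB; rewrite [Cfsg.Agent.CoOneType.CoW.of_eq Cfsg.Agent.LThreeCo1.Ev.foldZ_eq]; decide +kernel))
  simpa using h
theorem sq2 : e 2 * e 2 = 1 := by
  have h := word (w := [2, 2]) (w' := []) (by (delta Cfsg.Agent.LThreeCo1.Ev.eqB; rewrite [Cfsg.Agent.CoOneType.CoW.of_eq Cfsg.Agent.LThreeCo1.Ev.foldZ_eq]; decide +kernel))
  simpa using h
theorem sq3 : e 3 * e 3 = 1 := by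
  have h := word (w := [3, 3]) (w' := []) (by (delta Cfsg.Agent.LThreeCo1.Ev.eqB; rewrite [Cfsg.Agent.CoOneType.CoW.of_eq Cfsg.Agent.LThreeCo1.Ev.foldZ_eq]; decide +kernel))
  simpa using h

/-- the word `(0 i) ^ n` -/
def pw (i n : ℕ) : List ℕ := (List.replicate n [0, i]).flatten

theorem pw_prod (i n : ℕ) : ((pw i n).map e).prod = (e 0 * e i) ^ n := by
  induction n with
  | zero => rfl
  | succ n ih =>
    have h : pw i (n + 1) = [0, i] ++ pw i n := by
      unfold pw
      rw [List.replicate_succ, List.flatten_cons]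
    rw [h, List.map_append, List.prod_append, ih, pow_succ']
    simp

theorem pow_one_of {i n : ℕ} (h : eqB M (pw i n) [] = true) : (e 0 * e i) ^ n = 1 := by
  rw [← pw_prod, word h]
  rfl

theorem pow_ne_of {i n : ℕ} (h : neB' M (pw i n) [] = true) : (e 0 * e i) ^ n ≠ 1 := by
  rw [← pw_prod]
  exact nword h

/-- the order of `e 0 * e i` from the checks -/
theorem order_of {i n : ℕ} (hn : 0 < n) (h1 : eqB M (pw i n) [] = true)
    (h2 : ∀ p, p.Prime → p ∣ n → neB' M (pw i (n / p)) [] = true) : orderOf (e 0 * e i) = n := by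
  refine orderOf_eq_of_pow_and_pow_div_prime hn (pow_one_of h1) fun p hp hpn => ?_
  exact pow_ne_of (h2 p hp hpn)

theorem order14 : orderOf (e 0 * e 1) = 14 := by
  refine order_of (by norm_num) (by (delta Cfsg.Agent.LThreeCo1.Ev.eqB; rewrite [Cfsg.Agent.CoOneType.CoW.of_eq Cfsg.Agent.LThreeCo1.Ev.foldZ_eq]; decide +kernel)) fun p hp hpn => ?_
  have h : p ∣ 2 * 7 := hpn
  rcases hp.dvd_mul.1 h with h | h
  · obtain rfl := (Nat.prime_dvd_prime_iff_eq hp (by norm_num)).1 h
    (delta Cfsg.Agent.LThreeCo1.Ev.neB'; rewrite [Cfsg.Agent.CoOneType.CoW.of_eq Cfsg.Agent.LThreeCo1.Ev.foldZ_eq]; decide +kernel)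
  · obtain rfl := (Nat.prime_dvd_prime_iff_eq hp (by norm_num)).1 h
    (delta Cfsg.Agent.LThreeCo1.Ev.neB'; rewrite [Cfsg.Agent.CoOneType.CoW.of_eq Cfsg.Agent.LThreeCo1.Ev.foldZ_eq]; decide +kernel)

theorem order30 : orderOf (e 0 * e 2) = 30 := by
  refine order_of (by norm_num) (by (delta Cfsg.Agent.LThreeCo1.Ev.eqB; rewrite [Cfsg.Agent.CoOneType.CoW.of_eq Cfsg.Agent.LThreeCo1.Ev.foldZ_eq]; decide +kernel)) fun p hp hpn => ?_
  have h : p ∣ 2 * 3 * 5 := hpn
  rcases hp.dvd_mul.1 h with h | h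
  · rcases hp.dvd_mul.1 h with h | h
    · obtain rfl := (Nat.prime_dvd_prime_iff_eq hp (by norm_num)).1 h
      (delta Cfsg.Agent.LThreeCo1.Ev.neB'; rewrite [Cfsg.Agent.CoOneType.CoW.of_eq Cfsg.Agent.LThreeCo1.Ev.foldZ_eq]; decide +kernel)
    · obtain rfl := (Nat.prime_dvd_prime_iff_eq hp (by norm_num)).1 h
      (delta Cfsg.Agent.LThreeCo1.Ev.neB'; rewrite [Cfsg.Agent.CoOneType.CoW.of_eq Cfsg.Agent.LThreeCo1.Ev.foldZ_eq]; decide +kernel)
  · obtain rfl := (Nat.prime_dvd_prime_iff_eq hp (by norm_num)).1 h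
    (delta Cfsg.Agent.LThreeCo1.Ev.neB'; rewrite [Cfsg.Agent.CoOneType.CoW.of_eq Cfsg.Agent.LThreeCo1.Ev.foldZ_eq]; decide +kernel)

theorem order9 : orderOf (e 0 * e 3) = 9 := by
  refine order_of (by norm_num) (by (delta Cfsg.Agent.LThreeCo1.Ev.eqB; rewrite [Cfsg.Agent.CoOneType.CoW.of_eq Cfsg.Agent.LThreeCo1.Ev.foldZ_eq]; decide +kernel)) fun p hp hpn => ?_
  have h : p ∣ 3 ^ 2 := hpn
  obtain rfl := (Nat.prime_dvd_prime_iff_eq hp (by norm_num)).1 (hp.dvd_of_dvd_pow h)
  (delta Cfsg.Agent.LThreeCo1.Ev.neB'; rewrite [Cfsg.Agent.CoOneType.CoW.of_eq Cfsg.Agent.LThreeCo1.Ev.foldZ_eq]; decide +kernel)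

theorem order11 : orderOf (e 4 * e 4) = 11 := by
  have h1 : (e 4 * e 4) ^ 11 = 1 := by
    have h := word (w := List.replicate 22 4) (w' := []) (by (delta Cfsg.Agent.LThreeCo1.Ev.eqB; rewrite [Cfsg.Agent.CoOneType.CoW.of_eq Cfsg.Agent.LThreeCo1.Ev.foldZ_eq]; decide +kernel))
    rw [List.map_replicate, List.prod_replicate, List.map_nil, List.prod_nil] at h
    rw [← pow_two, ← pow_mul]
    exact h
  have h2 : e 4 * e 4 ≠ 1 := by
    have h := nword (w := [4, 4]) (w' := []) (by (delta Cfsg.Agent.LThreeCo1.Ev.neB'; rewrite [Cfsg.Agent.CoOneType.CoW.of_eq Cfsg.Agent.LThreeCo1.Ev.foldZ_eq]; decide +kernel))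
    simpa using h
  have : Fact (Nat.Prime 11) := ⟨by norm_num⟩
  exact orderOf_eq_prime h1 h2

/-! ### Elements of `McL` -/

theorem mem_mul {i j : ℕ} (hi : i < 5) (hj : j < 5) :
    ((e i * e j : Co0) : Equiv.Perm leechLattice) ∈ McL := by
  refine mem_McL.2 ⟨(e i * e j).2, ?_, ?_⟩
  · show (e i : Equiv.Perm leechLattice) ((e j : Equiv.Perm leechLattice) leechV) = leechV
    rw [eV hj, eV hi]
  · show (e i : Equiv.Perm leechLattice) ((e j : Equiv.Perm leechLattice) leechU) = leechU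
    rw [eU hj, eW hi]

/-- the element of `McL` -/
noncomputable def yy {i j : ℕ} (hi : i < 5) (hj : j < 5) : McL := ⟨_, mem_mul hi hj⟩

theorem order_yy {i j : ℕ} (hi : i < 5) (hj : j < 5) : orderOf (yy hi hj) = orderOf (e i * e j) := by
  rw [← Subgroup.orderOf_coe, ← Subgroup.orderOf_coe]
  rfl

/-- conjugation by an outer automorphism against conjugation by `e i` -/
theorem conj_of {α : MulAut McL} (hα : ¬ ∃ s, α = MulAut.conj s) {i : ℕ} (hi : i < 5) {y y' : McL}
    (h : (e i : Equiv.Perm leechLattice) * y * (e i : Equiv.Perm leechLattice)⁻¹ = y') : IsConj (α y) y' := by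
  obtain ⟨c, hc, hcV, hcU, hcx⟩ := H692.CubeMcL.exists_conj hα
  have hcW : c W = leechU := by
    rw [map_W hc hcV, hcU, W]
    abel
  have gV : (e i : Equiv.Perm leechLattice)⁻¹ leechV = leechV := by rw [Equiv.Perm.inv_eq_iff_eq, eV hi]
  have gU : (e i : Equiv.Perm leechLattice)⁻¹ leechU = W := by rw [Equiv.Perm.inv_eq_iff_eq, eW hi]
  have hk : c * (e i : Equiv.Perm leechLattice)⁻¹ ∈ McL := by
    refine mem_McL.2 ⟨mul_mem hc (inv_mem (e i).2), ?_, ?_⟩
    · rw [Equiv.Perm.mul_apply, gV, hcV]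
    · rw [Equiv.Perm.mul_apply, gU, hcW]
  have hk' : (⟨_, hk⟩ : McL) * y' * (⟨_, hk⟩ : McL)⁻¹ = α y := by
    apply Subtype.ext
    rw [hcx]
    show c * (e i : Equiv.Perm leechLattice)⁻¹ * (y' : Equiv.Perm leechLattice) *
      (c * (e i : Equiv.Perm leechLattice)⁻¹)⁻¹ = _
    rw [← h]
    group
  exact (isConj_iff.2 ⟨_, hk'⟩).symm

theorem inv_e0 : (e 0)⁻¹ = e 0 := inv_eq_of_mul_eq_one_left sq0

theorem flip_pow {i : ℕ} (hi : i < 5) (hsq : e i * e i = 1) (n : ℕ) :
    (e 0 : Equiv.Perm leechLattice) * ((yy (show 0 < 5 by norm_num) hi ^ n : McL) : Equiv.Perm leechLattice) *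
      (e 0 : Equiv.Perm leechLattice)⁻¹ = (((yy (show 0 < 5 by norm_num) hi ^ n)⁻¹ : McL) : Equiv.Perm leechLattice) := by
  have h : e 0 * (e 0 * e i) ^ n * (e 0)⁻¹ = ((e 0 * e i) ^ n)⁻¹ := by
    rw [← conj_pow, ← inv_pow, mul_inv_rev, inv_e0, inv_eq_of_mul_eq_one_left hsq, ← mul_assoc, sq0, one_mul]
  exact congrArg (fun x : Co0 => (x : Equiv.Perm leechLattice)) h

/-- powers of `e 0 * e i` -/
theorem inv_pow' {i : ℕ} (hi : i < 5) (hsq : e i * e i = 1) (n : ℕ) {α : MulAut McL}
    (hα : ¬ ∃ s, α = MulAut.conj s) : IsConj (α (yy (show 0 < 5 by norm_num) hi ^ n))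
      ((yy (show 0 < 5 by norm_num) hi ^ n)⁻¹) :=
  conj_of hα (show 0 < 5 by norm_num) (flip_pow hi hsq n)

/-- **Elements inverted by the outer automorphisms** -/
theorem inv_of {n : ℕ} (hn : n = 7 ∨ n = 9 ∨ n = 14 ∨ n = 15 ∨ n = 30) :
    ∃ y : McL, orderOf y = n ∧ ∀ α : MulAut McL, (¬ ∃ s, α = MulAut.conj s) → IsConj (α y) y⁻¹ := by
  rcases hn with rfl | rfl | rfl | rfl | rfl
  · refine ⟨yy (show 0 < 5 by norm_num) (show 1 < 5 by norm_num) ^ 2, ?_, fun α hα => inv_pow' _ sq1 2 hα⟩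
    rw [orderOf_pow_of_dvd two_ne_zero (by rw [order_yy, order14]; norm_num), order_yy, order14]
  · refine ⟨yy (show 0 < 5 by norm_num) (show 3 < 5 by norm_num) ^ 1, ?_, fun α hα => inv_pow' _ sq3 1 hα⟩
    rw [pow_one, order_yy, order9]
  · refine ⟨yy (show 0 < 5 by norm_num) (show 1 < 5 by norm_num) ^ 1, ?_, fun α hα => inv_pow' _ sq1 1 hα⟩
    rw [pow_one, order_yy, order14]
  · refine ⟨yy (show 0 < 5 by norm_num) (show 2 < 5 by norm_num) ^ 2, ?_, fun α hα => inv_pow' _ sq2 2 hα⟩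
    rw [orderOf_pow_of_dvd two_ne_zero (by rw [order_yy, order30]; norm_num), order_yy, order30]
  · refine ⟨yy (show 0 < 5 by norm_num) (show 2 < 5 by norm_num) ^ 1, ?_, fun α hα => inv_pow' _ sq2 1 hα⟩
    rw [pow_one, order_yy, order30]

/-- **An element of order 11 commuting with an outer element** -/
theorem eleven : ∃ y : McL, orderOf y = 11 ∧ ∀ α : MulAut McL, (¬ ∃ s, α = MulAut.conj s) → IsConj (α y) y := by
  refine ⟨yy (show 4 < 5 by norm_num) (show 4 < 5 by norm_num), by rw [order_yy, order11], fun α hα => ?_⟩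
  refine conj_of hα (show 4 < 5 by norm_num) ?_
  have h : e 4 * (e 4 * e 4) * (e 4)⁻¹ = e 4 * e 4 := by group
  exact congrArg (fun x : Co0 => (x : Equiv.Perm leechLattice)) h

/-! ### Abstract version -/

section abs

variable {T : Type*} [Group T]

theorem not_inner {φ : T ≃* McL} {α : MulAut T} (hα : ¬ ∃ s, α = MulAut.conj s) :
    ¬ ∃ s, (φ.symm.trans (α.trans φ) : MulAut McL) = MulAut.conj s := by
  rintro ⟨s, hs⟩
  apply hα
  refine ⟨φ.symm s, ?_⟩
  ext t
  have h := congrArg (fun f : MulAut McL => f (φ t)) hs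
  simp only [MulAut.conj_apply] at h
  have h1 : φ (α t) = s * φ t * s⁻¹ := by
    rw [← h]
    show φ (α t) = φ (α (φ.symm (φ t)))
    rw [MulEquiv.symm_apply_apply]
  apply φ.injective
  rw [h1, MulAut.conj_apply, map_mul, map_mul, map_inv, MulEquiv.apply_symm_apply]

theorem transfer {φ : T ≃* McL} {α : MulAut T} {y y' : McL}
    (h : IsConj ((φ.symm.trans (α.trans φ) : MulAut McL) y) y') : IsConj (α (φ.symm y)) (φ.symm y') := by
  obtain ⟨c, hc⟩ := isConj_iff.1 h
  refine isConj_iff.2 ⟨φ.symm c, ?_⟩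
  rw [← hc]
  show _ = φ.symm (c * φ (α (φ.symm y)) * c⁻¹)
  rw [map_mul, map_mul, map_inv, MulEquiv.symm_apply_apply]

theorem order_symm (φ : T ≃* McL) (y : McL) : orderOf (φ.symm y) = orderOf y :=
  orderOf_injective φ.symm.toMonoidHom φ.symm.injective y

theorem inv_of_iso (h : Spor.IsoMcL T) {n : ℕ} (hn : n = 7 ∨ n = 9 ∨ n = 14 ∨ n = 15 ∨ n = 30) :
    ∃ y : T, orderOf y = n ∧ ∀ α : MulAut T, (¬ ∃ s, α = MulAut.conj s) → IsConj (α y) y⁻¹ := by
  obtain ⟨φ⟩ := h
  obtain ⟨y, hy, hc⟩ := inv_of hn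
  refine ⟨φ.symm y, by rw [order_symm, hy], fun α hα => ?_⟩
  rw [← map_inv]
  exact transfer (hc _ (not_inner hα))

theorem eleven_iso (h : Spor.IsoMcL T) :
    ∃ y : T, orderOf y = 11 ∧ ∀ α : MulAut T, (¬ ∃ s, α = MulAut.conj s) → IsConj (α y) y := by
  obtain ⟨φ⟩ := h
  obtain ⟨y, hy, hc⟩ := eleven
  exact ⟨φ.symm y, by rw [order_symm, hy], fun α hα => transfer (hc _ (not_inner hα))⟩

end abs

end Cfsg.Agent.H41.McLTwo
end

-- part: H41/McLTwo/Classes
section
/-!
# The action of the outer automorphisms on the classes of `McL` (helper41, task 5084)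

From a list of the classes with orders and centralizer orders: `α t ~ t⁻¹` for the elements `t` of order 7, 9, 14, 15, 30
and `α t ~ t` for the other elements.
-/

set_option autoImplicit false

namespace Cfsg.Agent.H41.McLTwo

open Cfsg

universe u

/-- the orders of the classes interchanged by the outer automorphisms -/
def Sw (n : ℕ) : Bool := n == 7 || n == 9 || n == 14 || n == 15 || n == 30

theorem sw_cases {n : ℕ} (h : Sw n = true) : n = 7 ∨ n = 9 ∨ n = 14 ∨ n = 15 ∨ n = 30 := by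
  simp only [Sw, Bool.or_eq_true, beq_iff_eq] at h
  tauto

/-- A list of the classes with orders, centralizer orders and inverses. -/
structure Cls (T : Type u) [Group T] (k : ℕ) where
  x : Fin k → T
  o : Fin k → ℕ
  c : Fin k → ℕ
  inv : Fin k → Fin k
  cover : ∀ g : T, ∃ i, IsConj (x i) g
  inj : ∀ i j, IsConj (x i) (x j) → i = j
  order : ∀ i, orderOf (x i) = o i
  card : ∀ i, Nat.card (Subgroup.centralizer ({x i} : Set T)) = c i
  hinv : ∀ i, IsConj (x (inv i)) (x i)⁻¹

variable {T : Type u} [Group T] {k : ℕ}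

theorem isConj_inv {a b : T} (h : IsConj a b) : IsConj a⁻¹ b⁻¹ := by
  obtain ⟨g, hg⟩ := isConj_iff.1 h
  exact isConj_iff.2 ⟨g, by rw [← hg]; group⟩

theorem orderOf_isConj {a b : T} (h : IsConj a b) : orderOf a = orderOf b := by
  obtain ⟨g, rfl⟩ := isConj_iff.1 h
  exact (orderOf_injective (MulAut.conj g).toMonoidHom (MulAut.conj g).injective a).symm

theorem card_cent_aut (α : MulAut T) (a : T) :
    Nat.card (Subgroup.centralizer ({α a} : Set T)) = Nat.card (Subgroup.centralizer ({a} : Set T)) := by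
  refine (Nat.card_congr (α.toEquiv.subtypeEquiv fun c => ?_)).symm
  rw [Subgroup.mem_centralizer_singleton_iff, Subgroup.mem_centralizer_singleton_iff]
  show c * a = a * c ↔ α c * α a = α a * α c
  rw [← map_mul, ← map_mul]
  exact α.injective.eq_iff.symm

theorem card_cent_isConj {a b : T} (h : IsConj a b) :
    Nat.card (Subgroup.centralizer ({a} : Set T)) = Nat.card (Subgroup.centralizer ({b} : Set T)) := by
  obtain ⟨g, rfl⟩ := isConj_iff.1 h
  exact (card_cent_aut (MulAut.conj g) a).symm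

theorem isConj_aut (α : MulAut T) {a b : T} (h : IsConj a b) : IsConj (α a) (α b) := by
  obtain ⟨g, rfl⟩ := isConj_iff.1 h
  exact isConj_iff.2 ⟨α g, by rw [map_mul, map_mul, map_inv]⟩

namespace Cls

variable (C : Cls T k)

theorem o_eq {i : Fin k} {t : T} (h : IsConj (C.x i) t) : C.o i = orderOf t := by
  rw [← C.order, orderOf_isConj h]

theorem c_eq {i : Fin k} {t : T} (h : IsConj (C.x i) t) :
    C.c i = Nat.card (Subgroup.centralizer ({t} : Set T)) := by
  rw [← C.card, card_cent_isConj h]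

/-- the classes of a swapped order: `t'` is conjugate to `t` or `t⁻¹` -/
theorem two {n : ℕ} (h2 : ∀ i j, C.o i = n → C.o j = n → j = i ∨ j = C.inv i) {t t' : T} (ht : orderOf t = n)
    (ht' : orderOf t' = n) : IsConj t t' ∨ IsConj t⁻¹ t' := by
  obtain ⟨i, hi⟩ := C.cover t
  obtain ⟨j, hj⟩ := C.cover t'
  rcases h2 i j ((C.o_eq hi).trans ht) ((C.o_eq hj).trans ht') with rfl | rfl
  · exact Or.inl (hi.symm.trans hj)
  · exact Or.inr (((isConj_inv hi).symm.trans (C.hinv i).symm).trans hj)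

theorem swap (hT : Spor.IsoMcL T) (h2 : ∀ i j, Sw (C.o i) = true → C.o i = C.o j → j = i ∨ j = C.inv i)
    {α : MulAut T} (hα : ¬ ∃ s, α = MulAut.conj s) {t : T} (ht : Sw (orderOf t) = true) : IsConj (α t) t⁻¹ := by
  obtain ⟨y, hy, hc⟩ := inv_of_iso hT (sw_cases ht)
  have h := hc α hα
  have h3 : ∀ i j, C.o i = orderOf t → C.o j = orderOf t → j = i ∨ j = C.inv i := by
    intro i j hi hj
    exact h2 i j (by rw [hi]; exact ht) (by rw [hi, hj])
  rcases C.two h3 (t := t) (t' := y) rfl hy with h1 | h1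
  · exact ((isConj_aut α h1).trans h).trans (isConj_inv h1).symm
  · have h4 := isConj_inv (isConj_aut α h1)
    rw [map_inv, inv_inv] at h4
    have h5 := isConj_inv h
    rw [inv_inv] at h5
    exact (h4.trans h5).trans h1.symm

/-- the elements of order 11 -/
theorem eleven (hT : Spor.IsoMcL T) (h2 : ∀ i j, C.o i = 11 → C.o j = 11 → j = i ∨ j = C.inv i)
    {α : MulAut T} (hα : ¬ ∃ s, α = MulAut.conj s) {t : T} (ht : orderOf t = 11) : IsConj (α t) t := by
  obtain ⟨y, hy, hc⟩ := eleven_iso hT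
  have h := hc α hα
  rcases C.two h2 (t := t) (t' := y) ht hy with h1 | h1
  · exact ((isConj_aut α h1).trans h).trans h1.symm
  · have h4 := isConj_inv (isConj_aut α h1)
    rw [map_inv, inv_inv] at h4
    have h5 := isConj_inv h
    have h6 := isConj_inv h1
    rw [inv_inv] at h6
    exact (h4.trans h5).trans h6.symm

/-- the other elements -/
theorem stay (hT : Spor.IsoMcL T) (h2 : ∀ i j, C.o i = 11 → C.o j = 11 → j = i ∨ j = C.inv i)
    (h3 : ∀ i j, Sw (C.o i) = false → C.o i ≠ 11 → C.o i = C.o j → C.c i = C.c j → i = j)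
    {α : MulAut T} (hα : ¬ ∃ s, α = MulAut.conj s) {t : T} (ht : Sw (orderOf t) = false) : IsConj (α t) t := by
  by_cases h11 : orderOf t = 11
  · exact C.eleven hT h2 hα h11
  obtain ⟨i, hi⟩ := C.cover t
  obtain ⟨j, hj⟩ := C.cover (α t)
  have e1 : C.o j = C.o i := by
    rw [C.o_eq hj, C.o_eq hi]
    exact orderOf_injective α.toMonoidHom α.injective t
  have e2 : C.c j = C.c i := by rw [C.c_eq hj, C.c_eq hi, card_cent_aut]
  have e3 := h3 i j (by rw [C.o_eq hi]; exact ht) (by rw [C.o_eq hi]; exact h11) e1.symm e2.symm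
  subst e3
  exact hj.symm.trans hi

/-- the number of invariant classes -/
theorem card_inv (hT : Spor.IsoMcL T)
    (h1 : ∀ i j, Sw (C.o i) = true → C.o i = C.o j → j = i ∨ j = C.inv i)
    (h1' : ∀ i, Sw (C.o i) = true → C.inv i ≠ i)
    (h2 : ∀ i j, C.o i = 11 → C.o j = 11 → j = i ∨ j = C.inv i)
    (h3 : ∀ i j, Sw (C.o i) = false → C.o i ≠ 11 → C.o i = C.o j → C.c i = C.c j → i = j)
    {α : MulAut T} (hα : ¬ ∃ s, α = MulAut.conj s) :
    Nat.card {D : ConjClasses T // ConjClasses.map (α : T ≃* T).toMonoidHom D = D} =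
      (Finset.univ.filter fun i : Fin k => Sw (C.o i) = false).card := by
  classical
  rw [← Fintype.card_subtype, ← Nat.card_eq_fintype_card]
  symm
  refine Nat.card_congr (Equiv.ofBijective (fun i => ⟨ConjClasses.mk (C.x i.1), ?_⟩) ⟨?_, ?_⟩)
  · show ConjClasses.mk (α (C.x i.1)) = ConjClasses.mk (C.x i.1)
    rw [ConjClasses.mk_eq_mk_iff_isConj]
    exact C.stay hT h2 h3 hα (by rw [C.order]; exact i.2)
  · intro i j hij
    have h := congrArg Subtype.val hij
    exact Subtype.ext (C.inj _ _ (ConjClasses.mk_eq_mk_iff_isConj.1 h))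
  · rintro ⟨D, hD⟩
    obtain ⟨g, rfl⟩ := ConjClasses.mk_surjective D
    obtain ⟨i, hi⟩ := C.cover g
    refine ⟨⟨i, ?_⟩, Subtype.ext (ConjClasses.mk_eq_mk_iff_isConj.2 hi)⟩
    by_contra hs
    have hs' : Sw (C.o i) = true := by simpa using hs
    have h4 : IsConj (α g) g := ConjClasses.mk_eq_mk_iff_isConj.1 hD
    have h5 : IsConj (α g) g⁻¹ := C.swap hT h1 hα (by rw [← C.o_eq hi]; exact hs')
    have h6 : IsConj (C.x (C.inv i)) (C.x i) :=
      (C.hinv i).trans (((isConj_inv hi).trans (h5.symm.trans h4)).trans hi.symm)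
    exact h1' i hs' (C.inj _ _ h6)

end Cls

end Cfsg.Agent.H41.McLTwo
end

-- part: H41/McLTwo/Main
section
/-!
# `McL.2`, `p = 5` (helper41, task 5084; S4819, S4820)

`H` with a normal subgroup `S ≅ McL` of index 2 and trivial centralizer, from the class list and the character table of
`McL`: 26 characters of degree prime to 125, 7 of 5-defect zero, 25 classes of 5-regular elements.
-/

set_option autoImplicit false

namespace Cfsg.Agent.H41.McLTwo

open Cfsg Cfsg.Agent.Characters.Core Cfsg.Agent.H447.CTab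
open scoped Pointwise

universe u

/-- Class list and characters of `McL`. -/
structure McLData (T : Type u) [Group T] [Finite T] where
  r : ℕ
  C : ClassTab T 24
  rc : Fin 24 → Fin r
  Θ : Table C rc 12 6
  o : Fin 24 → ℕ
  inv : Fin 24 → Fin 24
  order : ∀ i, orderOf (C.x i) = o i
  hinv : ∀ i, IsConj (C.x (inv i)) (C.x i)⁻¹
  dR : Fin 12 → ℕ
  dP : Fin 6 → ℕ
  hdR : ∀ a, (Θ.R a (rc Θ.i0)).toNat = dR a
  hdP : ∀ b, (Θ.P b (rc Θ.i0)).toNat / 2 = dP b
  h1 : ∀ i j, Sw (o i) = true → o i = o j → j = i ∨ j = inv i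
  h1' : ∀ i, Sw (o i) = true → inv i ≠ i
  h11 : ∀ i, 11 ∣ o i → o i = 11
  h2 : ∀ i j, o i = 11 → o j = 11 → j = i ∨ j = inv i
  h3 : ∀ i j, Sw (o i) = false → o i ≠ 11 → o i = o j → C.c i = C.c j → i = j
  n14 : (Finset.univ.filter fun i => Sw (o i) = false).card = 14
  nreg : (Finset.univ.filter fun i => (!(5 ∣ o i : Bool) && !Sw (o i)) = true).card = 11
  nreg' : (Finset.univ.filter fun i => (!(5 ∣ o i : Bool) && Sw (o i)) = true).card = 6
  nP : (Finset.univ.filter fun b => (!(11 ∣ dP b : Bool)) = true).card = 1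
  dz1 : (Finset.univ.filter fun a => (125 ∣ dR a : Bool) = true).card = 3
  dz2 : (Finset.univ.filter fun b => ((125 ∣ dP b : Bool) && (11 ∣ dP b : Bool)) = true).card = 1
  dz3 : (Finset.univ.filter fun b => ((125 ∣ dP b : Bool) && !(11 ∣ dP b : Bool)) = true).card = 0
  n625R : ∀ a, ¬ 625 ∣ dR a
  n625P : ∀ a, ¬ 625 ∣ dP a

section Lev

variable {H : Type u} [Group H] {S : Subgroup H} [S.Normal]

theorem not_inner' (hC : Subgroup.centralizer (S : Set H) = ⊥) {g : H} (hg : g ∉ S) :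
    ¬ ∃ s, (MulAut.conjNormal g : MulAut S) = MulAut.conj s := by
  rintro ⟨s, hs⟩
  have h1 : (s : H)⁻¹ * g ∈ Subgroup.centralizer (S : Set H) := by
    rw [Subgroup.mem_centralizer_iff]
    intro x hx
    have h2 := congrArg (Subtype.val : S → H) (DFunLike.congr_fun hs ⟨x, hx⟩)
    rw [conj_eq, MulAut.conj_apply] at h2
    have h3 : g * x * g⁻¹ = s * x * (s : H)⁻¹ := h2
    calc x * ((s : H)⁻¹ * g) = (s : H)⁻¹ * (s * x * (s : H)⁻¹) * g := by group
      _ = (s : H)⁻¹ * g * x := by rw [← h3]; group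
  rw [hC, Subgroup.mem_bot, inv_mul_eq_one] at h1
  exact hg (h1 ▸ s.2)

theorem exists_outer (hN : S.index = 2) : ∃ g : H, g ∉ S := by
  have hne : S ≠ ⊤ := by
    rintro rfl
    rw [Subgroup.index_top] at hN
    omega
  obtain ⟨g, hg⟩ := SetLike.exists_not_mem_of_ne_top S hne rfl
  exact ⟨g, hg⟩

/-- every element is inner times `1` or `g` -/
theorem inner_or (hN : S.index = 2) {g : H} (hg : g ∉ S) (x : H) : (∃ s : S, x = s) ∨ ∃ s : S, x = s * g := by
  by_cases hx : x ∈ S
  · exact Or.inl ⟨⟨x, hx⟩, rfl⟩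
  · refine Or.inr ⟨⟨x * g⁻¹, ?_⟩, by simp⟩
    rw [Subgroup.mul_mem_iff_of_index_two hN]
    exact ⟨fun h => absurd h hx, fun h => absurd (inv_mem_iff.1 h) hg⟩

theorem inv_iff' (hN : S.index = 2) {g : H} (hg : g ∉ S) {ψ : IrrCharacter S} :
    Cliff.Inv S ψ ↔ (ψ : S → ℂ) ∘ (MulAut.conjNormal g : MulAut S) = ψ := by
  refine ⟨fun h => h g, fun h x => ?_⟩
  funext y
  show (ψ : S → ℂ) ((MulAut.conjNormal x : MulAut S) y) = (ψ : S → ℂ) y
  rcases inner_or hN hg x with ⟨s, rfl⟩ | ⟨s, rfl⟩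
  · refine cf_isConj (isIrr_isClassFunction ψ.2) (isConj_iff.2 ⟨s⁻¹, Subtype.ext ?_⟩)
    rw [Subgroup.coe_mul, Subgroup.coe_mul, conj_eq, Subgroup.coe_inv]
    group
  · refine Eq.trans ?_ (congrFun h y)
    refine cf_isConj (isIrr_isClassFunction ψ.2) (isConj_iff.2 ⟨s⁻¹, Subtype.ext ?_⟩)
    rw [Subgroup.coe_mul, Subgroup.coe_mul, conj_eq, conj_eq, Subgroup.coe_inv]
    group

theorem invC_iff' (hN : S.index = 2) {g : H} (hg : g ∉ S) {y : S} :
    InvC S (ConjClasses.mk y) ↔ IsConj ((MulAut.conjNormal g : MulAut S) y) y := by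
  rw [invC_mk]
  refine ⟨fun h => h g, fun h x => ?_⟩
  rcases inner_or hN hg x with ⟨s, rfl⟩ | ⟨s, rfl⟩
  · refine isConj_iff.2 ⟨s⁻¹, Subtype.ext ?_⟩
    rw [Subgroup.coe_mul, Subgroup.coe_mul, conj_eq, Subgroup.coe_inv]
    group
  · refine IsConj.trans ?_ h
    refine isConj_iff.2 ⟨s⁻¹, Subtype.ext ?_⟩
    rw [Subgroup.coe_mul, Subgroup.coe_mul, conj_eq, conj_eq, Subgroup.coe_inv]
    group

end Lev

namespace McLData

variable {T : Type u} [Group T] [Finite T] (M : McLData T)

include M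

/-- the class list -/
def cls : Cls T 24 where
  x := M.C.x
  o := M.o
  c := M.C.c
  inv := M.inv
  cover := M.C.cover
  inj := M.C.inj
  order := M.order
  card := M.C.card
  hinv := M.hinv

theorem real {t : T} (h1 : Sw (orderOf t) = false) (h2 : orderOf t ≠ 11) : IsConj t t⁻¹ := by
  obtain ⟨i, hi⟩ := M.C.cover t
  obtain ⟨j, hj⟩ := M.C.cover t⁻¹
  have e1 : M.o i = orderOf t := M.cls.o_eq hi
  have e2 : M.o j = orderOf t := (M.cls.o_eq hj).trans (orderOf_inv t)
  have e3 : M.C.c i = M.C.c j := by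
    have h3 : M.C.c i = _ := M.cls.c_eq hi
    have h4 : M.C.c j = _ := M.cls.c_eq hj
    rw [h3, h4]
    have h5 : Subgroup.centralizer ({t⁻¹} : Set T) = Subgroup.centralizer ({t} : Set T) := by
      ext y
      rw [Subgroup.mem_centralizer_singleton_iff, Subgroup.mem_centralizer_singleton_iff]
      exact ⟨fun h => (Commute.inv_right_iff.1 (show Commute y t⁻¹ from h)).eq,
        fun h => (Commute.inv_right (show Commute y t from h)).eq⟩
    rw [h5]
  have e4 := M.h3 i j (by rw [e1]; exact h1) (by rw [e1]; exact h2) (e1.trans e2.symm) e3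
  subst e4
  exact hi.symm.trans hj

variable {α : MulAut T}

theorem hA (hT : Spor.IsoMcL T) (hα : ¬ ∃ s, α = MulAut.conj s) (t : T) (ht : ¬ 11 ∣ orderOf t) :
    IsConj (α t) t⁻¹ := by
  by_cases hs : Sw (orderOf t) = true
  · exact M.cls.swap hT M.h1 hα hs
  · have hs' : Sw (orderOf t) = false := by simpa using hs
    exact (M.cls.stay hT M.h2 M.h3 hα hs').trans (M.real hs' fun h => ht (by rw [h]))

theorem hB (hT : Spor.IsoMcL T) (hα : ¬ ∃ s, α = MulAut.conj s) (t : T) : IsConj (α t) t ∨ IsConj (α t) t⁻¹ := by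
  by_cases hs : Sw (orderOf t) = true
  · exact Or.inr (M.cls.swap hT M.h1 hα hs)
  · have hs' : Sw (orderOf t) = false := by simpa using hs
    exact Or.inl (M.cls.stay hT M.h2 M.h3 hα hs')

theorem stay_iff (hT : Spor.IsoMcL T) (hα : ¬ ∃ s, α = MulAut.conj s) (i : Fin 24) :
    IsConj (α (M.C.x i)) (M.C.x i) ↔ Sw (M.o i) = false := by
  constructor
  · intro h
    by_contra hs
    have hs' : Sw (M.o i) = true := by simpa using hs
    have h5 : IsConj (α (M.C.x i)) (M.C.x i)⁻¹ := M.cls.swap hT M.h1 hα (by rw [M.order]; exact hs')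
    exact M.h1' i hs' (M.C.inj _ _ ((M.hinv i).trans (h5.symm.trans h)))
  · intro h
    exact M.cls.stay hT M.h2 M.h3 hα (by rw [M.order]; exact h)

/-- counting of classes -/
theorem card_classes_eq (P : ConjClasses T → Prop) (p : Fin 24 → Bool)
    (h : ∀ i, P (ConjClasses.mk (M.C.x i)) ↔ p i = true) :
    Nat.card {c : ConjClasses T // P c} = (Finset.univ.filter fun i => p i = true).card := by
  classical
  rw [← Fintype.card_subtype, ← Nat.card_eq_fintype_card]
  symm
  have e : Fin 24 ≃ ConjClasses T := Equiv.ofBijective (fun i => ConjClasses.mk (M.C.x i))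
    ⟨fun i j hij => M.C.inj _ _ (ConjClasses.mk_eq_mk_iff_isConj.1 hij), fun c => by
      obtain ⟨g, rfl⟩ := ConjClasses.mk_surjective c
      obtain ⟨i, hi⟩ := M.C.cover g
      exact ⟨i, ConjClasses.mk_eq_mk_iff_isConj.2 hi⟩⟩
  refine Nat.card_congr (Equiv.ofBijective (fun i => (⟨ConjClasses.mk (M.C.x i.1), (h i.1).2 i.2⟩ :
    {c : ConjClasses T // P c})) ⟨?_, ?_⟩)
  · intro i j hij
    exact Subtype.ext (M.C.inj _ _ (ConjClasses.mk_eq_mk_iff_isConj.1 (congrArg Subtype.val hij)))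
  · rintro ⟨c, hc⟩
    obtain ⟨g, rfl⟩ := ConjClasses.mk_surjective c
    obtain ⟨i, hi⟩ := M.C.cover g
    have h1 := ConjClasses.mk_eq_mk_iff_isConj.2 hi
    exact ⟨⟨i, (h i).1 (by rw [h1]; exact hc)⟩, Subtype.ext h1⟩

end McLData

section Count

variable {H : Type u} [Group H] [Finite H] {S : Subgroup H} [S.Normal]

/-- the factorization condition -/
theorem fac_iff {n : ℕ} (h : ¬ 625 ∣ n) : n.factorization 5 = 3 ↔ 125 ∣ n := by
  have hn : n ≠ 0 := by
    rintro rfl
    exact h (dvd_zero _)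
  have h3 := (Nat.prime_five).pow_dvd_iff_le_factorization (k := 3) hn
  have h4 := (Nat.prime_five).pow_dvd_iff_le_factorization (k := 4) hn
  norm_num at h3 h4
  rw [h3]
  constructor
  · omega
  · intro h5
    have : ¬ 4 ≤ n.factorization 5 := fun h6 => h (h4.2 h6)
    omega

theorem fac_two (n : ℕ) : (2 * n).factorization 5 = n.factorization 5 := by
  rcases eq_or_ne n 0 with rfl | hn
  · rfl
  · rw [Nat.factorization_mul two_ne_zero hn, Finsupp.add_apply, Nat.factorization_eq_zero_of_not_dvd (n := 2) (by norm_num),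
      zero_add]

theorem fac11 (hT : Spor.IsoMcL S) : (Nat.card S).factorization 11 = 1 := by
  have h := H904.McLCent.card_L hT
  have hn : Nat.card S ≠ 0 := Nat.card_pos.ne'
  have h1 := (show Nat.Prime 11 by norm_num).pow_dvd_iff_le_factorization (k := 1) hn
  have h2 := (show Nat.Prime 11 by norm_num).pow_dvd_iff_le_factorization (k := 2) hn
  rw [h] at h1 h2 ⊢
  norm_num at h1 h2
  omega

omit [S.Normal] in
theorem fac5 (hN : S.index = 2) (hT : Spor.IsoMcL S) : (Nat.card H).factorization 5 = 3 := by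
  have h := H904.McLCent.card_L hT
  have h0 : Nat.card H = 1796256000 := by
    rw [← S.index_mul_card, h, hN]
  have hn : Nat.card H ≠ 0 := Nat.card_pos.ne'
  have h1 := Nat.prime_five.pow_dvd_iff_le_factorization (k := 3) hn
  have h2 := Nat.prime_five.pow_dvd_iff_le_factorization (k := 4) hn
  rw [h0] at h1 h2 ⊢
  norm_num at h1 h2
  omega

theorem card_inv_eq (M : McLData S) (hC : Subgroup.centralizer (S : Set H) = ⊥)
    (hT : Spor.IsoMcL S) {g : H} (hg : g ∉ S) :
    Nat.card {C : ConjClasses S // ConjClasses.map ((MulAut.conjNormal g : MulAut S) : S ≃* S).toMonoidHom C = C} =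
      12 + 2 * (Finset.univ.filter fun b => (!(11 ∣ M.dP b : Bool)) = true).card := by
  rw [M.nP]
  have h := M.cls.card_inv hT M.h1 M.h1' M.h2 M.h3 (not_inner' hC hg)
  rw [h]
  exact M.n14

/-- the `5`-regular classes -/
theorem card_reg (M : McLData S) (hN : S.index = 2) (hC : Subgroup.centralizer (S : Set H) = ⊥)
    (hT : Spor.IsoMcL S) : Nat.card {c : ConjClasses H // ¬ 5 ∣ orderOf (Quotient.out c)} = 25 := by
  obtain ⟨g, hg⟩ := exists_outer hN
  have hα := not_inner' hC hg
  have h := reg_two (N := S) hN Nat.prime_five (by norm_num)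
  have ho : ∀ i, orderOf (Quotient.out (ConjClasses.mk (M.C.x i))) = M.o i := by
    intro i
    rw [← M.order]
    refine orderOf_isConj (ConjClasses.mk_eq_mk_iff_isConj.1 ?_)
    exact Quotient.out_eq (ConjClasses.mk (M.C.x i))
  have hi : ∀ i, InvC S (ConjClasses.mk (M.C.x i)) ↔ Sw (M.o i) = false := fun i =>
    (invC_iff' hN hg).trans (M.stay_iff hT hα i)
  have e1 := M.card_classes_eq (fun c => ¬ 5 ∣ orderOf (Quotient.out c) ∧ InvC S c)
    (fun i => !(5 ∣ M.o i : Bool) && !Sw (M.o i)) (fun i => by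
      rw [ho, hi, Bool.and_eq_true, Bool.not_eq_true', Bool.not_eq_true', decide_eq_false_iff_not])
  have e2 := M.card_classes_eq (fun c => ¬ 5 ∣ orderOf (Quotient.out c) ∧ ¬ InvC S c)
    (fun i => !(5 ∣ M.o i : Bool) && Sw (M.o i)) (fun i => by
      rw [ho, hi, Bool.and_eq_true, Bool.not_eq_true', decide_eq_false_iff_not, Bool.not_eq_false])
  rw [M.nreg] at e1
  rw [M.nreg'] at e2
  rw [e1, e2] at h
  omega

theorem dvd_of_false {n m : ℕ} (h : (!(n ∣ m : Bool)) = false) : n ∣ m := by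
  rw [Bool.not_eq_false', decide_eq_true_iff] at h
  exact h

/-- the characters of `5`-defect zero -/
theorem card_dz (M : McLData S) (hN : S.index = 2) (hC : Subgroup.centralizer (S : Set H) = ⊥)
    (hT : Spor.IsoMcL S) :
    Nat.card {χ : IrrCharacter H // (charDegree (χ : H → ℂ)).factorization 5 = 3} = 7 := by
  classical
  obtain ⟨g, hg⟩ := exists_outer hN
  have hα := not_inner' hC hg
  have h := Cliff.card_two hN (fun n => n.factorization 5 = 3) (fun n => by rw [fac_two])
  have h1 := count_inv M.Θ ((MulAut.conjNormal g : MulAut S) : S ≃* S) (q := 11) (by norm_num)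
    (M.hA hT hα) (M.hB hT hα) (fun b => !(11 ∣ M.dP b : Bool))
    (fun b hb => by
      rw [fac11 hT, pow_one, M.hdP]
      exact dvd_of_false hb) (card_inv_eq M hC hT hg) (fun n => n.factorization 5 = 3)
    (fun a => (125 ∣ M.dR a : Bool)) (fun b => (125 ∣ M.dP b : Bool))
    (fun a => by rw [M.hdR, fac_iff (M.n625R a), decide_eq_true_iff])
    (fun b => by rw [M.hdP, fac_iff (M.n625P b), decide_eq_true_iff])
  simp only [Bool.not_not] at h1
  rw [M.dz1, M.dz2, M.dz3] at h1
  have e1 : Nat.card {ψ : IrrCharacter S // (charDegree (ψ : S → ℂ)).factorization 5 = 3 ∧ Cliff.Inv S ψ} = 3 + 2 * 0 := by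
    rw [← h1.1]
    exact Nat.card_congr (Equiv.subtypeEquivRight fun ψ => by rw [inv_iff' hN hg])
  have e2 : Nat.card {ψ : IrrCharacter S // (charDegree (ψ : S → ℂ)).factorization 5 = 3 ∧ ¬ Cliff.Inv S ψ} = 2 * 1 := by
    rw [← h1.2]
    exact Nat.card_congr (Equiv.subtypeEquivRight fun ψ => by rw [inv_iff' hN hg])
  rw [e1, e2] at h
  omega

/-- **The row `McL.2`**: from the local number `k(N(P)/P) = 18`. -/
theorem cnt_of (hLoc : H34.TI.LocGen.{u}) (M : McLData S) (hN : S.index = 2)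
    (hC : Subgroup.centralizer (S : Set H) = ⊥) (hT : Spor.IsoMcL S)
    (hK : ∀ P : Sylow 5 H, H34.TI.IsTI (P : Subgroup H) →
      Nat.card (ConjClasses ((Subgroup.normalizer ((P : Subgroup H) : Set H)) ⧸
        ((P : Subgroup H).subgroupOf (Subgroup.normalizer ((P : Subgroup H) : Set H))))) = 18) :
    H34.TI.Cnt 5 H := by
  intro P hP
  have : Fact (Nat.Prime 5) := ⟨Nat.prime_five⟩
  have h1 := hLoc 5 H P hP
  have h2 := hK P hP
  have h3 := card_reg M hN hC hT
  have h4 := card_dz M hN hC hT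
  have h5 := fac5 hN hT
  have h6 : Nat.card {χ : IrrCharacter H // H34.TI.IsDz 5 χ} = 7 := by
    rw [← h4]
    refine Nat.card_congr (Equiv.subtypeEquivRight fun χ => ?_)
    unfold H34.TI.IsDz
    rw [h5]
  have h7 : Nat.card (ConjClasses H) = Nat.card (H34.TI.Reg 5 H) + Nat.card (H34.TI.Sing 5 H) := by
    have h8 := card_split (α := ConjClasses H) (fun _ => True) (fun c => ¬ 5 ∣ orderOf (Quotient.out c))
    have h9 : Nat.card {c : ConjClasses H // True} = Nat.card (ConjClasses H) :=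
      Nat.card_congr (Equiv.subtypeUnivEquiv fun _ => trivial)
    rw [h9] at h8
    rw [h8]
    congr 1
    · exact Nat.card_congr (Equiv.subtypeEquivRight fun c => ⟨fun h => h.2, fun h => ⟨trivial, h⟩⟩)
    · exact Nat.card_congr (Equiv.subtypeEquivRight fun c => ⟨fun h => not_not.1 h.2, fun h => ⟨trivial, not_not.2 h⟩⟩)
  have h8 : Nat.card (H34.TI.Reg 5 H) = 25 := h3
  rw [h7, h1, h2, h6, h8]
  omega

end Count

end Cfsg.Agent.H41.McLTwo
end

-- part: H41/McLTwo/Pack
section
/-!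
# Packing of the class list of `McL` (helper41, task 5084)
-/

set_option autoImplicit false
set_option maxRecDepth 100000

namespace Cfsg.Agent.H41.McLTwo

open Cfsg Cfsg.Agent.H359.CT.McL Cfsg.Agent.H904.McLCent Cfsg.Agent.McLType.X275 Cfsg.Agent.McLType.Gens
open Cfsg.Agent.H447.CTab
open Cfsg.Agent.H41.McLTwo.Ords (os iv order_xs)

universe u

theorem p1 : ∀ i j : Fin 24, Sw (os i) = true → os i = os j → j = i ∨ j = iv i := by decide +kernel
theorem p1' : ∀ i : Fin 24, Sw (os i) = true → iv i ≠ i := by decide +kernel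
theorem p11 : ∀ i : Fin 24, 11 ∣ os i → os i = 11 := by decide +kernel
theorem p2 : ∀ i j : Fin 24, os i = 11 → os j = 11 → j = i ∨ j = iv i := by decide +kernel
theorem p3 : ∀ i j : Fin 24, Sw (os i) = false → os i ≠ 11 → os i = os j → cc i = cc j → i = j := by decide +kernel
theorem p14 : (Finset.univ.filter fun i : Fin 24 => Sw (os i) = false).card = 14 := by decide +kernel
theorem preg : (Finset.univ.filter fun i : Fin 24 => (!(5 ∣ os i : Bool) && !Sw (os i)) = true).card = 11 := by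
  decide +kernel
theorem preg' : (Finset.univ.filter fun i : Fin 24 => (!(5 ∣ os i : Bool) && Sw (os i)) = true).card = 6 := by
  decide +kernel

/-- **Packing** -/
def McLData.mk' {G : Type u} [Group G] [Finite G] (e : G ≃* ↥K0) {r : ℕ} {rc : Fin 24 → Fin r} (C : ClassTab G 24)
    (hx : ∀ i, C.x i = e.symm (xs i)) (hc : ∀ i, C.c i = cc i) (Θ : Table C rc 12 6) (dR : Fin 12 → ℕ) (dP : Fin 6 → ℕ)
    (hdR : ∀ a, (Θ.R a (rc Θ.i0)).toNat = dR a) (hdP : ∀ b, (Θ.P b (rc Θ.i0)).toNat / 2 = dP b)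
    (nP : (Finset.univ.filter fun b => (!(11 ∣ dP b : Bool)) = true).card = 1)
    (dz1 : (Finset.univ.filter fun a => (125 ∣ dR a : Bool) = true).card = 3)
    (dz2 : (Finset.univ.filter fun b => ((125 ∣ dP b : Bool) && (11 ∣ dP b : Bool)) = true).card = 1)
    (dz3 : (Finset.univ.filter fun b => ((125 ∣ dP b : Bool) && !(11 ∣ dP b : Bool)) = true).card = 0)
    (n625R : ∀ a, ¬ 625 ∣ dR a) (n625P : ∀ a, ¬ 625 ∣ dP a) : McLData G where
  r := r
  C := C
  rc := rc
  Θ := Θ
  o := os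
  inv := iv
  order := fun i => by
    rw [hx, ← order_xs i]
    exact orderOf_injective e.symm.toMonoidHom e.symm.injective (xs i)
  hinv := fun i => by
    rw [hx, hx, ← map_inv]
    exact e.symm.toMonoidHom.map_isConj (Ords.hinv i)
  dR := dR
  dP := dP
  hdR := hdR
  hdP := hdP
  h1 := p1
  h1' := p1'
  h11 := p11
  h2 := p2
  h3 := fun i j a b c d => p3 i j a b c (by rw [← hc, ← hc]; exact d)
  n14 := p14
  nreg := preg
  nreg' := preg'
  nP := nP
  dz1 := dz1
  dz2 := dz2
  dz3 := dz3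
  n625R := n625R
  n625P := n625P

end Cfsg.Agent.H41.McLTwo
end

private theorem dce_8ac1c79eefac : _root_.True := by
  try have : _root_.True := by simp only [_root_.Cfsg.Agent.H41.McLTwo.Sw.eq_1]
  exact _root_.True.intro
end
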